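import Cfsg.Agent.FFStruct.OddSys

/-!
# Lines in a natural module in odd characteristic
-/

set_option autoImplicit false
set_option linter.unusedSectionVars false
set_option linter.style.haveILetI false

namespace Cfsg.Agent.TransTorus

open Subgroup Matrix FFStruct
open scoped Pointwise MatrixGroups

section Plane

variable {K : Type*} [Field K]

/-- The determinant of two vectors of the plane. -/
def dt (u f : Fin 2 → K) : K := u 0 * f 1 - u 1 * f 0

theorem dt_mulVec (M : SL(2, K)) (u f : Fin 2 → K) :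
    dt ((M : Matrix (Fin 2) (Fin 2) K).mulVec u) ((M : Matrix (Fin 2) (Fin 2) K).mulVec f) =
      dt u f := by
  have h := M.det_coe
  rw [Matrix.det_fin_two] at h
  simp only [dt, Matrix.mulVec, dotProduct, Fin.sum_univ_two]
  linear_combination (u 0 * f 1 - u 1 * f 0) * h

theorem parallel {u f : Fin 2 → K} (hu : u ≠ 0) (h : dt u f = 0) : ∃ c : K, f = c • u := by
  unfold dt at h
  by_cases h0 : u 0 = 0
  · have h1 : u 1 ≠ 0 := fun e => hu (funext fun i => by fin_cases i <;> assumption)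
    refine ⟨f 1 / u 1, funext fun i => ?_⟩
    fin_cases i
    · rw [h0, zero_mul, zero_sub, neg_eq_zero, mul_eq_zero] at h
      simp [h0, h.resolve_left h1]
    · simp [h1]
  · refine ⟨f 0 / u 0, funext fun i => ?_⟩
    fin_cases i
    · simp [h0]
    · simp only [Pi.smul_apply, smul_eq_mul]
      show f 1 = f 0 / u 0 * u 1
      field_simp
      linear_combination h

theorem exists_sl2_first {w : Fin 2 → K} (hw : w ≠ 0) :
    ∃ M : SL(2, K), (M : Matrix (Fin 2) (Fin 2) K).mulVec ![1, 0] = w := by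
  by_cases h0 : w 0 = 0
  · have h1 : w 1 ≠ 0 := fun e => hw (funext fun i => by fin_cases i <;> assumption)
    refine ⟨⟨!![w 0, -(w 1)⁻¹; w 1, 0], by simp [Matrix.det_fin_two, h1]⟩, funext fun i => ?_⟩
    fin_cases i <;> simp [Matrix.mulVec, dotProduct, Fin.sum_univ_two]
  · refine ⟨⟨!![w 0, 0; w 1, (w 0)⁻¹], by simp [Matrix.det_fin_two, h0]⟩, funext fun i => ?_⟩
    fin_cases i <;> simp [Matrix.mulVec, dotProduct, Fin.sum_univ_two]

theorem exists_sl2 {w w' : Fin 2 → K} (hw : w ≠ 0) (hw' : w' ≠ 0) :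
    ∃ M : SL(2, K), (M : Matrix (Fin 2) (Fin 2) K).mulVec w = w' := by
  obtain ⟨A, hA⟩ := exists_sl2_first hw
  obtain ⟨B, hB⟩ := exists_sl2_first hw'
  refine ⟨B * A⁻¹, ?_⟩
  rw [Matrix.SpecialLinearGroup.coe_mul, ← Matrix.mulVec_mulVec, ← hA,
    Matrix.mulVec_mulVec _ (A⁻¹ : SL(2, K)).1, ← Matrix.SpecialLinearGroup.coe_mul, inv_mul_cancel,
    Matrix.SpecialLinearGroup.coe_one, Matrix.one_mulVec, hB]

end Plane

section Component

variable {H : Type*} [Group H] {V : Type*} [AddCommGroup V] [DistribMulAction H V]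
variable [Finite H] [Finite V] [FaithfulSMul H V] {p : ℕ} [Fact p.Prime] {E : Subgroup H}

/-- A component is transitive on the vectors outside its fixed points. -/
theorem exists_move (hE : IsMod V p E) (hp2 : p ≠ 2) {u v : V} (hu : u ∉ fx E) (hv : v ∉ fx E) :
    ∃ e ∈ E, e • u - v ∈ fx E := by
  obtain ⟨n, -, ⟨K, i1, i2, -, ρ, ψ, hs, hk, heq⟩ | ⟨h2, -⟩⟩ := hE
  swap
  · exact absurd h2 hp2
  obtain ⟨M, hM⟩ := exists_sl2 (fun h => hu ((hk u).1 h)) (fun h => hv ((hk v).1 h))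
  refine ⟨ρ.symm M, (ρ.symm M).2, (hk _).1 ?_⟩
  rw [map_sub, heq, MulEquiv.apply_symm_apply, hM, sub_self]

/-- An element fixing a vector outside the fixed points has order dividing `p`. -/
theorem pow_eq_one_of_fix (hE : IsMod V p E) (hp : ∀ v : V, p • v = 0) (hp2 : p ≠ 2) {e : H}
    (he : e ∈ E) {u : V} (hu : u ∉ fx E) (hfix : dm e u ∈ fx E) : e ^ p = 1 := by
  obtain ⟨n, hn, ⟨K, i1, i2, hK, ρ, ψ, hs, hk, heq⟩ | ⟨h2, -⟩⟩ := id hE
  swap
  · exact absurd h2 hp2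
  set M := (ρ ⟨e, he⟩ : Matrix (Fin 2) (Fin 2) K) with hM
  have hMu : M.mulVec (ψ u) = ψ u := by
    rw [hM, ← heq]
    exact sub_eq_zero.1 (by rw [← map_sub]; exact (hk _).2 hfix)
  refine hE.eq_one (pow_mem he p) fun v => (hk _).1 ?_
  set d := M.mulVec (ψ v) - ψ v with hd
  obtain ⟨c, hc⟩ := parallel (fun h => hu ((hk u).1 h)) (f := d) (by
    have h1 := dt_mulVec (ρ ⟨e, he⟩) (ψ u) (ψ v)
    rw [← hM, hMu] at h1
    rw [hd]
    simp only [dt, Pi.sub_apply] at h1 ⊢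
    linear_combination h1)
  have hit : ∀ k : ℕ, ψ (e ^ k • v) = ψ v + k • d := by
    intro k
    induction k with
    | zero => simp
    | succ k ih =>
      rw [pow_succ', mul_smul]
      have h1 := heq ⟨e, he⟩ (e ^ k • v)
      simp only at h1
      rw [h1, ← hM, ih, Matrix.mulVec_add, Matrix.mulVec_smul]
      have h2 : M.mulVec d = d := by rw [hc, Matrix.mulVec_smul, hMu]
      rw [h2, succ_nsmul', ← add_assoc]
      congr 1
      rw [hd]; abel
  have hpd : p • d = 0 := by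
    obtain ⟨w, hw⟩ := hs d
    rw [← hw, ← map_nsmul, hp, map_zero]
  rw [dm_apply, map_sub, hit, hpd, add_zero, sub_self]

/-- The fixed line of a nontrivial element. -/
theorem line_data (hE : IsMod V p E) (hp2 : p ≠ 2) {a : H} (ha : a ∈ E) (ha1 : a ≠ 1) :
    ∃ (K : Type) (_ : Field K) (ψ : V →+ (Fin 2 → K)), (∀ v, ψ v = 0 ↔ v ∈ fx E) ∧
      (∀ e ∈ E, ∀ (v w : V) (c : K), ψ w = c • ψ v → ψ (e • w) = c • ψ (e • v)) ∧
      ∀ v w, dm a v ∈ fx E → dm a w ∈ fx E → ψ v ≠ 0 → ∃ c : K, ψ w = c • ψ v := by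
  obtain ⟨n, hn, ⟨K, i1, i2, hK, ρ, ψ, hs, hk, heq⟩ | ⟨h2, -⟩⟩ := id hE
  swap
  · exact absurd h2 hp2
  refine ⟨K, i1, ψ, hk, fun e he v w c h => ?_, fun v w hv hw hv0 => parallel hv0 ?_⟩
  · have h1 := heq ⟨e, he⟩ w
    have h2 := heq ⟨e, he⟩ v
    simp only at h1 h2
    rw [h1, h2, h, Matrix.mulVec_smul]
  by_contra hD
  refine ha1 (hE.eq_one ha fun y => (hk _).1 ?_)
  set M := (ρ ⟨a, ha⟩ : Matrix (Fin 2) (Fin 2) K) with hM
  have hfix : ∀ z, dm a z ∈ fx E → M.mulVec (ψ z) = ψ z := fun z hz => by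
    rw [hM, ← heq]
    exact sub_eq_zero.1 (by rw [← map_sub]; exact (hk _).2 hz)
  rw [dm_apply, map_sub]
  have h0 := heq ⟨a, ha⟩ y
  simp only at h0
  rw [h0, ← hM, sub_eq_zero]
  have d1 := dt_mulVec (ρ ⟨a, ha⟩) (ψ v) (ψ y)
  rw [← hM, hfix v hv] at d1
  have d2 := dt_mulVec (ρ ⟨a, ha⟩) (ψ w) (ψ y)
  rw [← hM, hfix w hw] at d2
  simp only [dt] at d1 d2 hD
  funext i
  refine sub_eq_zero.1 ((mul_eq_zero.1 (?_ : (M.mulVec (ψ y) i - ψ y i) * _ = 0)).resolve_right hD)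
  fin_cases i
  · simp only [Fin.zero_eta, Fin.isValue]
    linear_combination (ψ w 0) * d1 - (ψ v 0) * d2
  · simp only [Fin.mk_one, Fin.isValue]
    linear_combination (ψ w 1) * d1 - (ψ v 1) * d2

end Component

end Cfsg.Agent.TransTorus
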