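import Cfsg.Agent.TransTorus.Min
import Cfsg.Agent.FusSys.GenCtl
import Cfsg.Agent.FusSys.FreeBase
import Cfsg.Agent.FusSys.IndexPrimeSat

/-!
# Central subgroups that are not weakly closed
-/

set_option autoImplicit false
set_option linter.unusedSectionVars false
set_option linter.style.haveILetI false

namespace Cfsg.Agent.TransTorus

open Cfsg Cfsg.FusionSystem Cfsg.Agent.FusSys

universe u

variable {Ω : Type u} [Group Ω] {S T : Subgroup Ω} {F : FusionSystem S} {p : ℕ}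

/-- Every automorphism of a fully normalized centric subgroup with large normalizer carries `T` into
itself. -/
def Good (F : FusionSystem S) (T : Subgroup Ω) (n : ℕ) : Prop :=
  ∀ R, F.IsCentric R → F.IsFullyNormalized R → n < Nat.card (normalizerIn S R) →
    ∀ f, Iso F R R f → ∀ t ∈ T, f t ∈ T

variable [Fact p.Prime] [Finite S] (hS : IsPGroup p S) (hF : F.IsSaturated p)
  (hT : T ≤ S ⊓ Subgroup.centralizer (S : Set Ω))
include hS hF hT

theorem le_of_centric {R : Subgroup Ω} (hR : F.IsCentric R) : T ≤ R := fun _ ht =>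
  centric_self hR ⟨(hT ht).1, Subgroup.centralizer_le hR.1 (hT ht).2⟩

/-- Morphisms on large subgroups preserve `T`. -/
theorem preserves_big {n : ℕ} (hn : Good F T n) : ∀ Y f, Mor F Y f → T ≤ Y → n < Nat.card Y →
    ∀ t ∈ T, f t ∈ T := by
  have hTS : T ≤ S := hT.trans inf_le_left
  have hST : S ≤ Subgroup.normalizer (T : Set Ω) :=
    (Subgroup.le_centralizer_iff.1 (hT.trans inf_le_right)).trans
      (Subgroup.centralizer_le_normalizer _)
  have hNS : normalizerIn S T = S := normalizerIn_eq_of_le hST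
  let M : Subgroup Ω → (Ω → Ω) → Prop := fun X f =>
    X ≤ S ∧ (∀ x ∈ X, f x ∈ S) ∧ (n < Nat.card X → NRel F T X f)
  have h0 := subRel_nRel (F := F) hTS
  rw [hNS] at h0
  have hM : SubRel F S M :=
    { congr := fun {P f g} h he => ⟨h.1, fun x hx => he x hx ▸ h.2.1 x hx, fun hc => h0.congr (h.2.2 hc) he⟩
      le := fun h => ⟨h.1, h.2.1⟩
      conj := fun {P s} hP hs => ⟨(h0.conj hP hs).1, hP, fun x hx => S.mul_mem (S.mul_mem hs (hP hx))
        (S.inv_mem hs), fun _ => (h0.conj hP hs).2⟩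
      comp := fun {P Q f g} hf h hg h' hfQ => ⟨h.1, fun x hx => h'.2.1 _ (hfQ x hx), fun hc =>
        h0.comp hf (h.2.2 hc) hg (h'.2.2 (lt_of_lt_of_le hc (hf.card_image_le hg.le hfQ))) hfQ⟩
      inv := fun {P Q f g} hf h hg hgf => ⟨hf.right_le, fun x hx => hg.1.mem_S hx, fun hc =>
        h0.inv hf (h.2.2 (hf.card_eq ▸ hc)) hg hgf⟩ }
  intro Y f hY hTY hcard t ht
  have h1 := alperin_induction hS hF hM (fun R hR α hα => ?_) Y f hY
  · obtain ⟨-, -, g, -, hgf, hgT⟩ := h1.2.2 hcard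
    rw [← hgf t (hTY ht)]
    exact (hgT _).2 ⟨t, ht, rfl⟩
  have hRc : F.IsCentric R := hR.elim (fun e => ⟨e.le, fun Q hQ => by
      have hQS : Q = S := eq_of_le_of_card le_rfl (isConj_le_right hQ)
        (by rw [← isConj_card_eq hQ, e])
      rw [hQS]; exact inf_le_left⟩) fun e => e.1
  have hRn : F.IsFullyNormalized R := hR.elim (fun e => ⟨e.le, fun X _ => by
      rw [e, normalizerIn_eq_of_le Subgroup.le_normalizer]
      exact Subgroup.card_le_of_le inf_le_left⟩) fun e => e.2.1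
  have hiso := iso_apl hRc.1 hα
  refine ⟨hRc.1, fun x hx => hiso.1.mem_S hx, fun hc => ?_⟩
  haveI : Finite (normalizerIn S R) := finite_of_le inf_le_left
  have hTR := le_of_centric hS hF hT hRc
  have hgood := hn R hRc hRn (lt_of_lt_of_le hc (Subgroup.card_le_of_le (le_normalizerIn hRc.1))) _ hiso
  exact nRel_of_mapsTo hTS hST (hiso.1.mono (sup_le le_rfl hTR)) (fun _ _ => rfl) hgood

/-- Automorphisms of any subgroup containing `T` with large normalizer preserve `T`. -/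
theorem preserves_normalizer {n : ℕ} (hn : Good F T n) {Q : Subgroup Ω} (hQ : Q ≤ S) (hTQ : T ≤ Q)
    (hcard : n < Nat.card (normalizerIn S Q)) {g : Ω → Ω} (hg : Iso F Q Q g) :
    ∀ t ∈ T, g t ∈ T := by
  have hTS : T ≤ S := hT.trans inf_le_left
  have hbig := preserves_big hS hF hT hn
  -- a transport principle
  have transport : ∀ (A B : Subgroup Ω) (φ k : Ω → Ω), A ≤ S → T ≤ A →
      Mor F (normalizerIn S A) φ → Iso F A B φ → n < Nat.card (normalizerIn S A) → Iso F A A k →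
      T ≤ B ∧ ∀ φ' : Ω → Ω, (∀ x ∈ A, φ' (φ x) = x) →
        (∀ t ∈ T, φ (k (φ' t)) ∈ T) → ∀ t ∈ T, k t ∈ T := by
    intro A B φ k hA hTA hφ hφi hc hk
    have hle : A ≤ normalizerIn S A := le_normalizerIn hA
    have hφT : ∀ t ∈ T, φ t ∈ T := hbig _ φ hφ (hTA.trans hle) hc
    refine ⟨fun y hy => ?_, fun φ' hφ' hgood t ht => ?_⟩
    · obtain ⟨x, hx, rfl⟩ := (hφ.mono (hTA.trans hle)).surj_of_card hTS hφT le_rfl hy
      exact hφi.mem (hTA hx)
    · have h1 := hgood (φ t) (hφT t ht)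
      rw [hφ' t (hTA ht)] at h1
      obtain ⟨x, hx, hxy⟩ := (hφ.mono (hTA.trans hle)).surj_of_card hTS hφT le_rfl h1
      rw [← hφ.injOn (hle (hTA hx)) (hle (hk.mem (hTA ht))) hxy]
      exact hx
  -- a fully normalized conjugate
  obtain ⟨Q', φ, hQ'n, hφ, hφi, hφN⟩ := exists_fullyNormalized_mor hS hF hQ
  obtain ⟨hTQ', hback⟩ := transport Q Q' φ g hQ hTQ hφ hφi hcard hg
  obtain ⟨φ', hφ'i, hφ'φ, -⟩ := hφi.symm
  refine hback φ' hφ'φ ?_
  set β : Ω → Ω := fun x => φ (g (φ' x)) with hβ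
  have hβi : Iso F Q' Q' β := (hφ'i.comp hg).comp hφi
  -- extend to the centric subgroup
  set E := Q' ⊔ centralizerIn S Q' with hE
  have hEc : F.IsCentric E := centric_core hS hF hQ'n
  obtain ⟨k, hk, hkβ⟩ := (isReceptive_iff.1 (receptive_of_fullyNormalized hS hF hQ'n)).2 Q' _ hβi
  have hEle : E ≤ nPhi S Q' β := by
    refine sup_le (fun a ha => ?_) fun c hc => ?_
    · refine ⟨hQ'n.1 ha, Subgroup.le_normalizer ha, β a, hβi.1.mem_S ha, fun x hx => ?_⟩
      exact hβi.1.map_conj ha hx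
    · refine ⟨hc.1, Subgroup.centralizer_le_normalizer _ hc.2, 1, S.one_mem, fun x hx => ?_⟩
      rw [← Subgroup.mem_centralizer_iff.1 hc.2 x hx, mul_inv_cancel_right]
      simp
  have hkE := hk.mono hEle
  have hki : Iso F Q' Q' k := hβi.congr hkβ
  have hkmem : ∀ x ∈ E, k x ∈ E := fun x hx => hkE.mem_of_sup
    (fun a ha => Subgroup.mem_sup_left (hki.mem ha))
    (fun c hc => Subgroup.mem_sup_right
      (hkE.mem_centralizerIn le_sup_left hki (Subgroup.mem_sup_right hc) hc.2)) hx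
  have hkiE : Iso F E E k := ⟨hkE, fun y => ⟨fun hy => hkE.surj_of_card hEc.1 hkmem le_rfl hy,
    fun ⟨x, hx, hxy⟩ => hxy ▸ hkmem x hx⟩⟩
  suffices hsuf : ∀ t ∈ T, k t ∈ T by
    intro t ht
    show β t ∈ T
    rw [← hkβ t (hTQ' ht)]
    exact hsuf t ht
  haveI : Finite (normalizerIn S Q') := finite_of_le inf_le_left
  haveI : Finite (normalizerIn S E) := finite_of_le inf_le_left
  have hNle : normalizerIn S Q' ≤ normalizerIn S E := fun s hs => by
    haveI := finite_of_le hEc.1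
    have hc := mor_conj (F := F) (hEc.1) hs.1
    have hci := iso_conj_self (F := F) hQ'n.1 hs.1 hs.2
    refine ⟨hs.1, mem_normalizer_of_maps fun x hx => hc.mem_of_sup
      (fun a ha => Subgroup.mem_sup_left (hci.mem ha))
      (fun c hcc => Subgroup.mem_sup_right
        (hc.mem_centralizerIn le_sup_left hci (Subgroup.mem_sup_right hcc) hcc.2)) hx⟩
  have hcardE : n < Nat.card (normalizerIn S E) := by
    refine hcard.trans_le ((hφ.card_image_le inf_le_left hφN).trans (Subgroup.card_le_of_le hNle))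
  obtain ⟨E', ψ, hE'n, hψ, hψi, hψN⟩ := exists_fullyNormalized_mor hS hF hEc.1
  obtain ⟨hTE', hback'⟩ := transport E E' ψ k hEc.1 (hTQ'.trans le_sup_left) hψ hψi hcardE hkiE
  obtain ⟨ψ', hψ'i, hψ'ψ, -⟩ := hψi.symm
  refine hback' ψ' hψ'ψ (hn E' (centric_of_isConj hEc hψi.isConj) hE'n ?_ _
    ((hψ'i.comp hkiE).comp hψi))
  exact hcardE.trans_le (hψ.card_image_le inf_le_left hψN)

end Cfsg.Agent.TransTorus

namespace Cfsg.Agent.TransTorus

open Cfsg Cfsg.FusionSystem Cfsg.Agent.FusSys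

universe v

variable {Ω : Type v} [Group Ω] {S T : Subgroup Ω} {F : FusionSystem S} {p : ℕ}
variable [Fact p.Prime] [Finite S]

theorem hasTorus_of_not_weaklyClosed (hS : IsPGroup p S) (hF : F.IsSaturated p) (hp : p ≠ 2)
    (hT : T ≤ S ⊓ Subgroup.centralizer (S : Set Ω))
    (hJT : ∀ NJ : FusionSystem (normalizerIn S (Cfsg.thompsonSubgroupAOf S)),
      F.IsNormalizerSystem (Cfsg.thompsonSubgroupAOf S) NJ → ∀ NT : FusionSystem (normalizerIn S T),
        F.IsNormalizerSystem T NT → NJ.IsSubsystemOf NT)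
    (hnw : ¬ F.WeaklyClosed T) : HasTorus p ↥T (F.autGroup T : Set (MulAut T)) := by
  classical
  have hTS : T ≤ S := hT.trans inf_le_left
  set 𝒳 := {R : Subgroup Ω | F.IsCentric R ∧ F.IsFullyNormalized R ∧
    ∃ f, Iso F R R f ∧ ∃ t ∈ T, f t ∉ T} with h𝒳
  have hfin : 𝒳.Finite := by
    refine ((Set.toFinite ((fun Y : Subgroup S => Y.map S.subtype) '' Set.univ))).subset ?_
    intro Q hQ
    exact ⟨Q.subgroupOf S, trivial, Subgroup.map_subgroupOf_eq_of_le hQ.1.1⟩
  -- some automorphism moves `T`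
  have hne : 𝒳.Nonempty := by
    by_contra hemp
    refine hnw ⟨hTS, fun φ hφ => ?_⟩
    haveI := finite_of_le hTS
    have hgood : Good F T 0 := fun R hRc hRn _ f hf t ht => by
      by_contra hft
      exact hemp ⟨R, hRc, hRn, f, hf, t, ht, hft⟩
    have hi := iso_extendFn hφ
    have hmap := preserves_big hS hF hT hgood T _ hi.1 le_rfl Nat.card_pos
    exact eq_of_le_of_card hTS
      (fun y hy => by obtain ⟨x, hx, rfl⟩ := hi.exists_eq hy; exact hmap x hx) hi.card_eq.le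
  obtain ⟨R, ⟨hRc, hRn, f₀, hf₀, t₀, ht₀, hft₀⟩, hmax⟩ := Set.exists_max_image 𝒳
    (fun R => Nat.card (normalizerIn S R)) hfin hne
  have hgood : Good F T (Nat.card (normalizerIn S R)) := fun R' hc' hn' hlt f hf t ht => by
    by_contra hft
    exact absurd (hmax R' ⟨hc', hn', f, hf, t, ht, hft⟩) (not_le.2 hlt)
  set NR := normalizerIn S R with hNR
  obtain ⟨N, L, _, ι, hN, hM⟩ : ∃ (N : FusionSystem NR) (L : Type v) (_ : Group L) (ι : NR →* L),
      F.IsNormalizerSystem R N ∧ N.IsModel p L ι := exists_normalizer_model hS hF hRn hRc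
  obtain ⟨hfinL, hr, ⟨P, hP⟩, hcL⟩ := id hM
  haveI : Finite L := hfinL
  have hinj := hr.1
  have hNRS : NR ≤ S := inf_le_left
  have hRN : R ≤ NR := le_normalizerIn hRc.1
  have hTN : T ≤ NR := (le_of_centric hS hF hT hRc).trans hRN
  set T1 := (T.subgroupOf NR).map ι with hT1
  have hT1Z : T1 ≤ (P : Subgroup L) ⊓ Subgroup.centralizer ((P : Subgroup L) : Set L) := by
    rintro _ ⟨x, hx, rfl⟩
    rw [hP]
    refine ⟨⟨x, rfl⟩, Subgroup.mem_centralizer_iff.2 ?_⟩
    rintro _ ⟨y, rfl⟩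
    rw [← map_mul, ← map_mul]
    exact congrArg ι (Subtype.ext (Subgroup.mem_centralizer_iff.1 (hT hx).2 _ (hNRS y.2)))
  -- elements normalizing the Thompson subgroup
  set J := Cfsg.thompsonSubgroupAOf NR with hJ
  have hJN : J ≤ NR := FusSys.thompsonSubgroupAOf_le NR
  have hJmap : Cfsg.thompsonSubgroupAOf (P : Subgroup L) = (J.subgroupOf NR).map ι := by
    have h1 := FusSys.thompsonSubgroupAOf_map_of_inf_ker NR.subtype (U := (⊤ : Subgroup NR))
      (by rw [top_inf_eq, NR.ker_subtype])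
    rw [← MonoidHom.range_eq_map, Subgroup.range_subtype, ← hJ] at h1
    have h2 := FusSys.thompsonSubgroupAOf_map_of_inf_ker ι (U := (⊤ : Subgroup NR))
      (by rw [top_inf_eq, (MonoidHom.ker_eq_bot_iff ι).2 hinj])
    rw [← MonoidHom.range_eq_map, ← hP] at h2
    rw [← h2, ← h1]
    congr 1
    exact (Subgroup.comap_map_eq_self_of_injective NR.subtype_injective _).symm
  have hTJ : T ≤ J := by
    intro t ht
    haveI : Finite NR := finite_of_le hNRS
    obtain ⟨A, hA⟩ := Fusion.exists_abMax 0 (⊤ : Subgroup NR)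
    have htA : (⟨t, hTN ht⟩ : NR) ∈ A := Fusion.mem_of_commute hA (Subgroup.mem_top _) (pow_zero _)
      fun a _ => Subtype.ext (Subgroup.mem_centralizer_iff.1 (hT ht).2 _ (hNRS a.2))
    have h1 := FusSys.thompsonSubgroupAOf_map_of_inf_ker NR.subtype (U := (⊤ : Subgroup NR))
      (by rw [top_inf_eq, NR.ker_subtype])
    rw [← MonoidHom.range_eq_map, Subgroup.range_subtype, ← hJ] at h1
    rw [← h1]
    refine ⟨⟨t, hTN ht⟩, ?_, rfl⟩
    rw [Fusion.thompsonSubgroupAOf_eq]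
    exact le_sSup (a := A) hA htA
  have hNJ : Subgroup.normalizer (Cfsg.thompsonSubgroupAOf (P : Subgroup L) : Set L) ≤
      Subgroup.normalizer (T1 : Set L) := by
    intro n hn
    rw [hJmap] at hn
    have hstep : ∀ x : NR, (x : Ω) ∈ J → ∃ w : NR, (w : Ω) ∈ J ∧ n * ι x * n⁻¹ = ι w := fun x hx => by
      obtain ⟨w, hw, hwz⟩ := (Subgroup.mem_normalizer_iff.1 hn (ι x)).1 ⟨x, hx, rfl⟩
      exact ⟨w, hw, hwz.symm⟩
    have hmem : ∀ x ∈ J, pullConj ι n x ∈ J := fun x hx => by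
      obtain ⟨w, hw, hwz⟩ := hstep ⟨x, hJN hx⟩ hx
      rw [show pullConj ι n x = (w : Ω) from pullConj_eq hinj (x := ⟨x, hJN hx⟩) hwz]
      exact hw
    have hgN : Mor N J (pullConj ι n) := by
      refine (mor_realized hr).2 ⟨hJN, fun x hx => hJN (hmem x hx), n, fun x hx => ?_⟩
      obtain ⟨w, -, hw⟩ := hstep x hx
      rw [pullConj_eq hinj hw, thFn_coe, hw]
    have hg : Mor F J (pullConj ι n) := ((mor_normalizerSystem hN).1 hgN).1
    have hgi : Iso F J J (pullConj ι n) := ⟨hg, fun y => ⟨fun hy =>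
      hg.surj_of_card (hJN.trans hNRS) hmem le_rfl hy, fun ⟨x, hx, hxy⟩ => hxy ▸ hmem x hx⟩⟩
    have hpres : ∀ t ∈ T, pullConj ι n t ∈ T := by
      by_cases hNS : NR = S
      · have hJS : J = Cfsg.thompsonSubgroupAOf S := by rw [hJ, hNS]
        have hJle : Cfsg.thompsonSubgroupAOf S ≤ S := FusSys.thompsonSubgroupAOf_le S
        have hNJsys := isNormalizerSystem_normalizerSys (F := F) hJle
        have hNTsys := isNormalizerSystem_normalizerSys (F := F) hTS
        have hJn : Cfsg.thompsonSubgroupAOf S ≤ normalizerIn S (Cfsg.thompsonSubgroupAOf S) :=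
          le_normalizerIn hJle
        have hgJ : Mor F (Cfsg.thompsonSubgroupAOf S) (pullConj ι n) := hJS ▸ hg
        have hmorJ := (mor_normalizerSystem hNJsys).2
          ⟨hgJ, hJn, fun x hx => hJn (hJS ▸ hmem x (hJS.symm ▸ hx)), _,
            hgJ.mono (sup_le le_rfl le_rfl), fun _ _ => rfl, fun y => by
              rw [← hJS]; exact hgi.2 y⟩
        have h1 := (mor_normalizerSystem hNTsys).1
          (isSubsystemOf_iff_mor.1 (hJT _ hNJsys _ hNTsys) _ _ hmorJ)
        obtain ⟨-, -, -, k, -, hkg, hkT⟩ := h1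
        intro t ht
        rw [← hkg t (hJS ▸ hTJ ht)]
        exact (hkT _).2 ⟨t, ht, rfl⟩
      · refine preserves_normalizer hS hF hT hgood (hJN.trans hNRS) hTJ ?_ hgi
        haveI : Finite (normalizerIn S J) := finite_of_le inf_le_left
        refine (card_lt_of_lt' inf_le_left (lt_normalizerIn hS (lt_of_le_of_ne hNRS hNS))).trans_le
          (Subgroup.card_le_of_le fun s hs => ⟨hs.1, FusSys.mem_normalizer_thompsonSubgroupAOf hs.2⟩)
    refine mem_normalizer_of_maps fun y hy => ?_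
    obtain ⟨x, hx, rfl⟩ := hy
    obtain ⟨w, -, hw⟩ := hstep x (hTJ hx)
    refine ⟨w, ?_, hw.symm⟩
    have h1 := hpres x hx
    rwa [pullConj_eq hinj hw] at h1
  -- `T` is not normal in the model
  have hnn : ¬ T1.Normal := by
    intro hn
    have hTR := le_of_centric hS hF hT hRc
    have hf₀N : Mor N R f₀ := (mor_normalizerSystem hN).2 ⟨hf₀.1, hRN, fun x hx => hRN (hf₀.mem hx), _,
      hf₀.1.mono (sup_le le_rfl le_rfl), fun _ _ => rfl, hf₀.2⟩
    obtain ⟨-, hS₀, a, ha⟩ := (mor_realized hr).1 hf₀N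
    have h1 := ha ⟨t₀, hTN ht₀⟩ (hTR ht₀)
    have hmem : f₀ t₀ ∈ NR := hS₀ t₀ (hTR ht₀)
    rw [thFn_apply hmem] at h1
    have h2 : ι ⟨f₀ t₀, hmem⟩ ∈ T1 := h1 ▸ hn.conj_mem _ ⟨⟨t₀, hTN ht₀⟩, ht₀, rfl⟩ a
    obtain ⟨w, hw, hwe⟩ := h2
    rw [hinj hwe] at hw
    exact hft₀ hw
  -- transport
  let e : T1 ≃* T := ((Subgroup.subgroupOfEquivOfLe hTN).symm.trans
    ((T.subgroupOf NR).equivMapOfInjective ι hinj)).symm
  refine (hasTorus_of_constrained hp hcL P hT1Z hNJ hnn).congr e ?_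
  rintro ψ ⟨n, -, hψ⟩
  set ω : MulAut T := MulAut.congr e ψ with hω
  have hval : ∀ (t : Ω) (ht : t ∈ T), n * ι ⟨t, hTN ht⟩ * n⁻¹ =
      ι ⟨((ω ⟨t, ht⟩ : T) : Ω), hTN (ω ⟨t, ht⟩).2⟩ := by
    intro t ht
    have h1 := hψ (e.symm ⟨t, ht⟩)
    have h2 : ((e.symm ⟨t, ht⟩ : T1) : L) = ι ⟨t, hTN ht⟩ := rfl
    rw [h2] at h1
    rw [← h1]
    have h3 : ψ (e.symm ⟨t, ht⟩) = e.symm (ω ⟨t, ht⟩) := by
      rw [hω]
      exact (e.symm_apply_apply _).symm
    rw [h3]
    rfl
  have hmorN : Mor N T (pullConj ι n) := by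
    refine (mor_realized hr).2 ⟨hTN, fun x hx => ?_, n, fun x hx => ?_⟩
    · rw [show pullConj ι n x = _ from pullConj_eq hinj (x := ⟨x, hTN hx⟩) (hval x hx)]
      exact hTN (ω ⟨x, hx⟩).2
    · rw [pullConj_eq hinj (hval x hx), thFn_coe, ← hval x hx]
  have hmorF : Mor F T (apl ω) := (((mor_normalizerSystem hN).1 hmorN).1).congr fun x hx => by
    rw [show pullConj ι n x = _ from pullConj_eq hinj (x := ⟨x, hTN hx⟩) (hval x hx), apl_apply ω hx]
  refine (mem_autGroup_iff hTS).2 ⟨hmorF, fun y => ⟨fun hy => ⟨apl ω⁻¹ y, apl_mem _ hy, apl_apl_inv ω hy⟩,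
    fun ⟨x, hx, hxy⟩ => hxy ▸ apl_mem ω hx⟩⟩

end Cfsg.Agent.TransTorus
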