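import Cfsg.Agent.TransTorus.Prep

/-!
# A central subgroup whose normalizer contains all proper overgroups of a Sylow subgroup
-/

set_option autoImplicit false
set_option linter.unusedSectionVars false
set_option linter.style.haveILetI false

namespace Cfsg.Agent.TransTorus

open Subgroup

universe u

variable {G : Type u} [Group G] [Finite G] {p : ℕ} [Fact p.Prime]

/-- The situation: `T` is central in `P`, not normal, and normalized by `N(J(P))` and by every proper
overgroup of `P`. -/
structure Setup (P : Sylow p G) (T : Subgroup G) : Prop where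
  hp2 : p ≠ 2
  hc : centralizer ((Cfsg.pCore p G : Subgroup G) : Set G) ≤ Cfsg.pCore p G
  hT : T ≤ (P : Subgroup G) ⊓ centralizer ((P : Subgroup G) : Set G)
  hN : normalizer (Cfsg.thompsonSubgroupAOf (P : Subgroup G) : Set G) ≤ normalizer (T : Set G)
  hmin : ∀ X : Subgroup G, (P : Subgroup G) ≤ X → X ≠ ⊤ → X ≤ normalizer (T : Set G)
  hnn : ¬ T.Normal

namespace Setup

variable {P : Sylow p G} {T : Subgroup G} (h : Setup P T)

include h

theorem commute {a b : G} (ha : a ∈ T) (hb : b ∈ T) : Commute a b :=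
  mem_centralizer_iff.1 (h.hT hb).2 a (h.hT ha).1

theorem le_centralizer : (P : Subgroup G) ≤ centralizer (T : Set G) :=
  le_centralizer_iff.1 (h.hT.trans inf_le_right)

theorem normalizer_ne_top : normalizer (T : Set G) ≠ ⊤ := fun e => h.hnn (normalizer_eq_top_iff.1 e)

theorem normalizer_le : normalizer ((P : Subgroup G) : Set G) ≤ normalizer (T : Set G) :=
  fun _ hx => h.hN (FusSys.mem_normalizer_thompsonSubgroupAOf hx)

theorem le_core : T ≤ Cfsg.pCore p G ⊓ centralizer ((Cfsg.pCore p G : Subgroup G) : Set G) := by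
  intro t ht
  have h1 : t ∈ centralizer ((Cfsg.pCore p G : Subgroup G) : Set G) :=
    centralizer_le (Core.pCore_le_sylow P) (h.hT ht).2
  exact ⟨h.hc h1, h1⟩

/-- A proper overgroup of `P` supplemented by a normalizing subgroup is impossible. -/
theorem eq_top_of_sup {X N : Subgroup G} (hPX : (P : Subgroup G) ≤ X) (hN : N ≤ normalizer (T : Set G))
    (htop : X ⊔ N = ⊤) : X = ⊤ := by
  by_contra hX
  exact h.normalizer_ne_top (top_le_iff.1 (htop ▸ sup_le (h.hmin X hPX hX) hN))

/-- The `p`-th powers are central. -/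
theorem pow_central {t : G} (ht : t ∈ T) : t ^ p ∈ center G := by
  let U : Subgroup G :=
    { carrier := {x | ∃ w ∈ T, w ^ p = x}
      one_mem' := ⟨1, one_mem _, one_pow _⟩
      mul_mem' := by
        rintro _ _ ⟨a, ha, rfl⟩ ⟨b, hb, rfl⟩
        exact ⟨a * b, mul_mem ha hb, (h.commute ha hb).mul_pow p⟩
      inv_mem' := by
        rintro _ ⟨a, ha, rfl⟩
        exact ⟨a⁻¹, inv_mem ha, inv_pow a p⟩ }
  have hle : normalizer (T : Set G) ≤ normalizer (U : Set G) := fun n hn =>
    FusSys.mem_normalizer_of_maps fun x hx => by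
      obtain ⟨w, hw, rfl⟩ := hx
      exact ⟨n * w * n⁻¹, (mem_normalizer_iff.1 hn w).1 hw, conj_pow⟩
  have htop : normalizer (U : Set G) = ⊤ := by
    refine FusSys.agemo_generation FusSys.posFunctor_jW FusSys.quadCond_jW h.hc P U ?_ _ ?_
      (centralizer_le_normalizer _)
    · rintro x ⟨w, hw, rfl⟩
      exact ⟨w, h.hT hw, rfl⟩
    · rw [FusSys.wsub_jW]
      exact h.hN.trans hle
  haveI : U.Normal := normalizer_eq_top_iff.1 htop
  have hUT : U ≤ T := by
    rintro x ⟨w, hw, rfl⟩
    exact pow_mem hw p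
  have hPC : (P : Subgroup G) ≤ centralizer (U : Set G) :=
    h.le_centralizer.trans (centralizer_le hUT)
  have hC : centralizer (U : Set G) = ⊤ := by
    refine h.eq_top_of_sup hPC h.normalizer_le ?_
    have h1 := frattini P (centralizer (U : Set G))
    rwa [inf_eq_left.2 hPC, sup_comm] at h1
  exact mem_center_iff.2 fun g => (mem_centralizer_iff.1 (hC.ge (mem_top g)) _ ⟨t, ht, rfl⟩).symm

/-- Commutators of `T` with any element lie in the elementary part of the centre of `O_p(G)`. -/
theorem comm_mem {t : G} (ht : t ∈ T) (g : G) :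
    g * t * g⁻¹ * t⁻¹ ∈ Cfsg.pCore p G ⊓ centralizer ((Cfsg.pCore p G : Subgroup G) : Set G) ∧
      (g * t * g⁻¹ * t⁻¹) ^ p = 1 := by
  set B := Cfsg.pCore p G ⊓ centralizer ((Cfsg.pCore p G : Subgroup G) : Set G) with hB
  have hBn : B.Normal := inferInstance
  have h1 : g * t * g⁻¹ ∈ B := hBn.conj_mem t (h.le_core ht) g
  refine ⟨B.mul_mem h1 (B.inv_mem (h.le_core ht)), ?_⟩
  have hcom : Commute (g * t * g⁻¹) t⁻¹ :=
    (mem_centralizer_iff.1 (B.inv_mem (h.le_core ht)).2 _ h1.1)
  rw [hcom.mul_pow, conj_pow, mem_center_iff.1 (h.pow_central ht) g, mul_inv_cancel_right, inv_pow,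
    mul_inv_cancel]

/-- The group of automorphisms of `T` induced by its normalizer has order prime to `p`. -/
theorem coprime_range : (Nat.card T.normalizerMonoidHom.range).Coprime p := by
  refine ((Fact.out : p.Prime).coprime_iff_not_dvd.2 ?_).symm
  rw [← index_ker, normalizerMonoidHom_ker]
  exact fun hd => P.not_dvd_index (hd.trans (dvd_trans (relIndex_dvd_of_le_left _ h.le_centralizer)
    (relIndex_dvd_index_of_le (h.le_centralizer.trans (centralizer_le_normalizer _)))))

theorem pow_fix {n : G} (hn : n ∈ normalizer (T : Set G)) {t : G} (ht : t ∈ T) :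
    n ^ Nat.card T.normalizerMonoidHom.range * t * (n ^ Nat.card T.normalizerMonoidHom.range)⁻¹ =
      t := by
  have h1 : T.normalizerMonoidHom (⟨n, hn⟩ ^ Nat.card T.normalizerMonoidHom.range) = 1 := by
    rw [map_pow]
    exact congrArg Subtype.val (pow_card_eq_one' (G := ↥T.normalizerMonoidHom.range)
      (x := ⟨_, ⟨n, hn⟩, rfl⟩))
  exact congrArg Subtype.val (DFunLike.congr_fun h1 ⟨t, ht⟩)

/-- Some element of order `p` in the centre of `P` is not central. -/
theorem centralizer_omega_le :
    centralizer {v : G | v ∈ (P : Subgroup G) ⊓ centralizer ((P : Subgroup G) : Set G) ∧ v ^ p = 1} ≤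
      normalizer (T : Set G) := by
  set Ω := {v : G | v ∈ (P : Subgroup G) ⊓ centralizer ((P : Subgroup G) : Set G) ∧ v ^ p = 1}
  refine h.hmin _ (fun x hx => mem_centralizer_iff.2 fun v hv =>
    (mem_centralizer_iff.1 hv.1.2 x hx).symm) fun htop => h.hnn ?_
  refine ⟨fun t ht g => ?_⟩
  have hcen : t ∈ center G := by
    refine FusSys.mem_center_of_constrained h.hc (Or.inl h.hp2) P (h.hT ht) fun n hn => ?_
    rw [FusSys.wsub_jW] at hn
    have hnT := h.hN hn
    set e := n * t * n⁻¹ * t⁻¹ with he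
    have heT : e ∈ T := T.mul_mem ((mem_normalizer_iff.1 hnT t).1 ht) (T.inv_mem ht)
    have hep := (h.comm_mem ht n).2
    have hfix : n * e * n⁻¹ = e := by
      rw [← mem_centralizer_iff.1 (htop.ge (mem_top n)) e ⟨h.hT heT, hep⟩, mul_inv_cancel_right]
    have h1 := conj_pow_eq (c := t) (e := e) (by rw [he, inv_mul_cancel_right]) hfix
      (Nat.card T.normalizerMonoidHom.range)
    rw [h.pow_fix hnT ht, eq_comm, mul_eq_right] at h1
    have h2 := eq_one_of_coprime h.coprime_range h1 hep
    rw [he, mul_inv_eq_one, mul_inv_eq_iff_eq_mul] at h2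
    exact mem_centralizer_singleton_iff.2 h2
  rw [mem_center_iff.1 hcen g, mul_inv_cancel_right]
  exact ht

/-- The centralizer of the elementary part of the centre of `O_p(G)` centralizes `T`. -/
theorem le_centralizer_of_omega {K : Subgroup G} [K.Normal]
    (hK : ∀ x ∈ K, ∀ v ∈ Cfsg.pCore p G ⊓ centralizer ((Cfsg.pCore p G : Subgroup G) : Set G),
      v ^ p = 1 → x * v = v * x) : K ≤ centralizer (T : Set G) := by
  -- elements of order prime to `p`
  have hco : ∀ y ∈ K, (orderOf y).Coprime p → y ∈ centralizer (T : Set G) := by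
    intro y hy hord
    refine mem_centralizer_iff.2 fun t ht => ?_
    obtain ⟨he, hep⟩ := h.comm_mem ht y
    have hfix : y * (y * t * y⁻¹ * t⁻¹) * y⁻¹ = y * t * y⁻¹ * t⁻¹ := by
      rw [hK y hy _ he hep, mul_inv_cancel_right]
    have h1 := conj_pow_eq (c := t) (e := y * t * y⁻¹ * t⁻¹) (by rw [inv_mul_cancel_right]) hfix
      (orderOf y)
    rw [pow_orderOf_eq_one, one_mul, inv_one, mul_one, eq_comm, mul_eq_right] at h1
    have h2 := eq_one_of_coprime hord h1 hep
    rw [mul_inv_eq_one, mul_inv_eq_iff_eq_mul] at h2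
    exact h2.symm
  obtain ⟨R, hR⟩ := Cfsg.Agent.SylowNumber.exists_sylow_inf P K
  suffices hidx : ((centralizer (T : Set G)).subgroupOf K).index = 1 by
    rw [index_eq_one, subgroupOf_eq_top] at hidx
    exact hidx
  by_contra hne
  obtain ⟨q, hq, hd⟩ := Nat.exists_prime_and_dvd hne
  haveI := Fact.mk hq
  by_cases hqp : q = p
  · subst hqp
    refine R.not_dvd_index (hd.trans (index_dvd_of_le ?_))
    intro x hx
    rw [hR] at hx
    exact h.le_centralizer hx.1
  · obtain ⟨Q⟩ : Nonempty (Sylow q K) := inferInstance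
    refine Q.not_dvd_index (hd.trans (index_dvd_of_le ?_))
    intro x hx
    refine hco x x.2 ?_
    obtain ⟨k, hk⟩ := Q.2 ⟨x, hx⟩
    have hdvd : orderOf (x : G) ∣ q ^ k := orderOf_dvd_of_pow_eq_one
      (by
        have h3 := congrArg (fun y : ↥(Q : Subgroup K) => ((y : K) : G)) hk
        simpa using h3)
    exact Nat.Coprime.coprime_dvd_left hdvd
      (((Nat.coprime_primes hq Fact.out).2 hqp).pow_left k)

end Setup

end Cfsg.Agent.TransTorus
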