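import Cfsg.Agent.TransTorus.Line
import Cfsg.Agent.FusSys.KNorm

/-!
# The torus of a product of natural modules normalizing a Sylow subgroup
-/

set_option autoImplicit false
set_option linter.unusedSectionVars false
set_option linter.style.haveILetI false

namespace Cfsg.Agent.TransTorus

open Subgroup FFStruct
open scoped Pointwise

variable {H : Type*} [Group H] {V : Type*} [AddCommGroup V] [DistribMulAction H V]
variable [Finite H] [Finite V] [FaithfulSMul H V] {p : ℕ} [Fact p.Prime]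
variable {T : Sylow p H} {r : ℕ} {E : Fin r → Subgroup H} (hE : SysData V p (T : Subgroup H) E)

theorem two_smul_mem {W : AddSubgroup V} (hp : ∀ v : V, p • v = 0) (hp2 : p ≠ 2) {v : V}
    (h : v + v ∈ W) : v ∈ W := by
  obtain ⟨k, hk⟩ := (Fact.out : p.Prime).odd_of_ne_two hp2
  have h1 := W.nsmul_mem h (k + 1)
  rwa [← two_nsmul, ← mul_nsmul, show 2 * (k + 1) = p + 1 by omega, succ_nsmul, hp, zero_add] at h1

/-- The vectors fixed by a group and inverted by an element. -/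
def negFix (z : H) (Q : Subgroup H) : AddSubgroup V where
  carrier := {v | z • v = -v ∧ v ∈ fx Q}
  zero_mem' := ⟨by rw [smul_zero, neg_zero], zero_mem _⟩
  add_mem' := fun {a b} ha hb => ⟨by rw [smul_add, ha.1, hb.1, neg_add], add_mem ha.2 hb.2⟩
  neg_mem' := fun {a} ha => ⟨by rw [smul_neg, ha.1], neg_mem ha.2⟩

theorem mem_negFix {z : H} {Q : Subgroup H} {v : V} :
    v ∈ negFix z Q ↔ z • v = -v ∧ v ∈ fx (V := V) Q := Iff.rfl

theorem smul_mem_negFix {z x : H} {Q : Subgroup H} (hxz : x * z = z * x)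
    (hx : x ∈ normalizer (Q : Set H)) {v : V} (hv : v ∈ negFix z Q) : x • v ∈ negFix z Q := by
  refine ⟨?_, smul_mem_fx_norm hx hv.2⟩
  rw [← mul_smul, ← hxz, mul_smul, hv.1, smul_neg]

include hE

/-- The central involution. -/
theorem exists_inv (hp : ∀ v : V, p • v = 0) (hp2 : p ≠ 2) : ∃ z ∈ ⨆ i, E i, z * z = 1 ∧
    (∀ t ∈ (T : Subgroup H), t * z = z * t) ∧ (∀ x ∈ ⨆ i, E i, x * z = z * x) ∧
    ∀ v : V, z • v = v → v ∈ fx (⨆ i, E i) := by
  haveI := hE.normal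
  obtain ⟨z, hz, hzv, hzc⟩ := hE.exists_z hp2
  refine ⟨z, hz, ?_, fun t _ => ?_, hzc, fun v hv => two_smul_mem hp hp2 ?_⟩
  · refine congrArg Subtype.val (hE.eq_one_of_pr (x := ⟨z * z, mul_mem hz hz⟩) fun i =>
      Subtype.ext ((hE.pr_eq_iff (one_mem _)).2 fun v => ?_))
    have h1 := hzv v z hz
    rw [smul_add, ← mul_smul, add_comm (z • v) v] at h1
    rw [one_smul, add_right_cancel h1, sub_self]
    exact zero_mem _
  · have hm : t * z * t⁻¹ * z⁻¹ ∈ ⨆ i, E i := mul_mem (hE.normal.conj_mem z hz t) (inv_mem hz)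
    suffices h : t * z * t⁻¹ * z⁻¹ = 1 by
      rw [mul_inv_eq_one, mul_inv_eq_iff_eq_mul] at h
      exact h
    refine congrArg Subtype.val (hE.eq_one_of_pr (x := ⟨_, hm⟩) fun i =>
      Subtype.ext ((hE.pr_eq_iff (one_mem _)).2 fun w => ?_))
    have h1 := fx_anti (le_iSup E i) (hzv (z⁻¹ • w))
    have h2 := fx_anti (le_iSup E i) (smul_mem_fx_norm
      (show t ∈ normalizer ((⨆ j, E j : Subgroup H) : Set H) by
        rw [normalizer_eq_top_iff.2 hE.normal]; exact mem_top t) (hzv (t⁻¹ • z⁻¹ • w)))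
    rw [smul_inv_smul] at h1
    rw [smul_add, smul_inv_smul] at h2
    have h3 := AddSubgroup.sub_mem _ h2 h1
    rw [one_smul, mul_smul, mul_smul, mul_smul]
    convert h3 using 1
    abel
  · have := hzv v
    rwa [hv] at this

variable {z : H}

/-- A nonzero inverted fixed vector has all components nonzero. -/
theorem not_mem_fx_of_negFix (hp : ∀ v : V, p • v = 0) (hp2 : p ≠ 2) (hz : z ∈ ⨆ i, E i) {u : V}
    (hu : u ∈ negFix z (T : Subgroup H)) (hu0 : u ≠ 0) (i : Fin r) : u ∉ fx (E i) := by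
  intro h
  refine hu0 ?_
  have h1 : u ∈ fx (⨆ j, E j) := by
    rw [mem_fx_iff_le_stabV]
    refine iSup_le fun j => mem_fx_iff_le_stabV.1 ?_
    obtain ⟨t, ht, et⟩ := hE.trans i j
    rw [← et, fx_cj, mem_sm, hu.2 t⁻¹ (inv_mem ht)]
    exact h
  have h2 := h1 z hz
  rw [hu.1, neg_eq_iff_add_eq_zero] at h2
  exact AddSubgroup.mem_bot.1 (two_smul_mem hp hp2 (W := ⊥) (h2 ▸ zero_mem _))

/-- The stabilizer in the product of such a vector lies in the Sylow subgroup. -/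
theorem mem_of_fix_negFix (hp : ∀ v : V, p • v = 0) (hp2 : p ≠ 2) (hz : z ∈ ⨆ i, E i) {u : V}
    (hu : u ∈ negFix z (T : Subgroup H)) (hu0 : u ≠ 0) {x : H} (hx : x ∈ ⨆ i, E i)
    (hxu : x • u = u) : x ∈ (T : Subgroup H) := by
  haveI := hE.normal
  obtain ⟨R, hR⟩ := Cfsg.Agent.SylowNumber.exists_sylow_inf T (⨆ j, E j)
  let X : Subgroup ↥(⨆ j, E j) := (stabV (H := H) u).subgroupOf (⨆ j, E j)
  have hXp : IsPGroup p X := by
    rintro ⟨y, hy⟩
    refine ⟨1, Subtype.ext ?_⟩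
    rw [pow_one, SubgroupClass.coe_pow]
    refine hE.eq_one_of_pr fun i => Subtype.ext ?_
    rw [map_pow, SubgroupClass.coe_pow]
    refine pow_eq_one_of_fix (hE.mod i) hp hp2 (hE.pr i y).2
      (not_mem_fx_of_negFix hE hp hp2 hz hu hu0 i) ?_
    have h1 := AddSubgroup.neg_mem _ (hE.pr_spec i y u)
    rw [neg_sub, show (y : H) • u = u from hy] at h1
    exact h1
  have hle : (R : Subgroup ↥(⨆ j, E j)) ≤ X := fun y hy => by
    rw [hR] at hy
    exact hu.2 _ hy.1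
  have h1 := R.is_maximal' hXp hle
  exact (hR.le (h1.le (show (⟨x, hx⟩ : ↥(⨆ j, E j)) ∈ X from hxu))).1

/-- The normalizer of the Sylow subgroup is transitive on these vectors. -/
theorem exists_trans (hp : ∀ v : V, p • v = 0) (hp2 : p ≠ 2) (hz : z ∈ ⨆ i, E i)
    (hzc : ∀ x ∈ ⨆ i, E i, x * z = z * x) (hzf : ∀ v : V, z • v = v → v ∈ fx (⨆ i, E i)) {u v : V}
    (hu : u ∈ negFix z (T : Subgroup H)) (hu0 : u ≠ 0) (hv : v ∈ negFix z (T : Subgroup H))
    (hv0 : v ≠ 0) :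
    ∃ x ∈ ⨆ i, E i, x ∈ normalizer ((T : Subgroup H) : Set H) ∧ x • u = v := by
  haveI := hE.normal
  choose e he hev using fun i => exists_move (hE.mod i) hp2
    (not_mem_fx_of_negFix hE hp hp2 hz hu hu0 i) (not_mem_fx_of_negFix hE hp hp2 hz hv hv0 i)
  obtain ⟨x, hx, hxv⟩ := hE.glue e he
  have hd : x • u - v ∈ fx (⨆ i, E i) := by
    rw [mem_fx_iff_le_stabV]
    refine iSup_le fun i => mem_fx_iff_le_stabV.1 ?_
    have h1 := AddSubgroup.add_mem _ (hxv i u) (hev i)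
    rwa [sub_add_sub_cancel] at h1
  have hxu : x • u = v := by
    have h1 : z • (x • u - v) = -(x • u - v) := by
      rw [smul_sub, ← mul_smul, ← hzc x hx, mul_smul, hu.1, hv.1, smul_neg]
      abel
    rw [hd z hz, eq_neg_iff_add_eq_zero] at h1
    exact sub_eq_zero.1 (AddSubgroup.mem_bot.1 (two_smul_mem hp hp2 (W := ⊥) (h1 ▸ zero_mem _)))
  refine ⟨x, hx, ?_, hxu⟩
  have hinv : x⁻¹ ∈ normalizer ((T : Subgroup H) : Set H) := FusSys.mem_normalizer_of_maps fun t ht => by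
    rw [inv_inv]
    have hm : x⁻¹ * t * x * t⁻¹ ∈ ⨆ i, E i := by
      rw [show x⁻¹ * t * x * t⁻¹ = x⁻¹ * (t * x * t⁻¹) by group]
      exact mul_mem (inv_mem hx) (hE.normal.conj_mem x hx t)
    have h1 := mem_of_fix_negFix hE hp hp2 hz hu hu0 hm (by
      rw [mul_smul, mul_smul, mul_smul, hu.2 t⁻¹ (inv_mem ht), hxu, hv.2 t ht, inv_smul_eq_iff, hxu])
    simpa [mul_assoc] using mul_mem h1 ht
  simpa using inv_mem hinv

/-- The action on the inverted fixed vectors is by scalars. -/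
theorem exists_char (hp : ∀ v : V, p • v = 0) (hp2 : p ≠ 2) (hz : z ∈ ⨆ i, E i)
    (hzc : ∀ x ∈ ⨆ i, E i, x * z = z * x) {u₀ : V} (hu₀ : u₀ ∈ negFix z (T : Subgroup H))
    (hne : u₀ ≠ 0) :
    ∃ (K : Type) (_ : Field K)
      (c : ↥((⨆ i, E i) ⊓ normalizer ((T : Subgroup H) : Set H)) →* Kˣ),
      ∀ x, c x = 1 → ∀ u ∈ negFix z (T : Subgroup H), (x : H) • u = (u : V) := by
  classical
  have hr : 0 < r := hE.pos
  let i : Fin r := ⟨0, hr⟩
  obtain ⟨a, ha, ha1⟩ := SetLike.exists_of_lt (bot_lt_iff_ne_bot.2 (hE.local_data hp2 i).1)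
  obtain ⟨K, iK, ψ, hk, hlin, hpar⟩ := line_data (hE.mod i) hp2 ha.2 ha1
  have hψ : ∀ {u : V}, u ∈ negFix z (T : Subgroup H) → u ≠ 0 → ψ u ≠ 0 := fun hu h0 e =>
    not_mem_fx_of_negFix hE hp hp2 hz hu h0 i ((hk _).1 e)
  have hline : ∀ u ∈ negFix z (T : Subgroup H), ∃ c : K, ψ u = c • ψ u₀ := fun u hu => by
    refine hpar u₀ u ?_ ?_ (hψ hu₀ hne)
    · rw [dm_eq_zero.2 (hu₀.2 a ha.1)]; exact zero_mem _
    · rw [dm_eq_zero.2 (hu.2 a ha.1)]; exact zero_mem _
  have hact : ∀ x ∈ ⨆ j, E j, ∀ (v w : V) (c : K), ψ w = c • ψ v → ψ (x • w) = c • ψ (x • v) := by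
    intro x hx v w c h
    have hh : ∀ y : V, ψ (x • y) = ψ ((hE.pr i ⟨x, hx⟩ : H) • y) := fun y =>
      sub_eq_zero.1 (by rw [← map_sub]; exact (hk _).2 (hE.pr_spec i ⟨x, hx⟩ y))
    rw [hh, hh]
    exact hlin _ (hE.pr i ⟨x, hx⟩).2 v w c h
  set X := (⨆ j, E j) ⊓ normalizer ((T : Subgroup H) : Set H) with hX
  have hmem : ∀ x : X, ∀ {u : V}, u ∈ negFix z (T : Subgroup H) →
      (x : H) • u ∈ negFix z (T : Subgroup H) :=
    fun x {u} hu => smul_mem_negFix (hzc x x.2.1) x.2.2 hu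
  choose c hc using fun x : X => hline _ (hmem x hu₀)
  have h1 : c 1 = 1 := smul_left_injective K (hψ hu₀ hne) (by
    simp only [← hc, one_smul, Subgroup.coe_one])
  let f : X →* K :=
    { toFun := c
      map_one' := h1
      map_mul' := fun x y => smul_left_injective K (hψ hu₀ hne) (by
        simp only [← hc]
        rw [Subgroup.coe_mul, mul_smul, hact x x.2.1 u₀ _ (c y) (hc y), hc x, smul_smul, mul_comm]) }
  refine ⟨K, iK, f.toHomUnits, fun x hx u hu => ?_⟩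
  have hx1 : c x = 1 := congrArg Units.val hx
  obtain ⟨d, hd⟩ := hline u hu
  have h2 := hact x x.2.1 u₀ u d hd
  rw [hc x, hx1, one_smul, ← hd] at h2
  by_contra hne'
  exact hψ (sub_mem (hmem x hu) hu) (sub_ne_zero.2 hne') (by rw [map_sub, h2, sub_self])

end Cfsg.Agent.TransTorus
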