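import Cfsg.Agent.TransTorus.Sys
import Cfsg.Agent.TransTorus.Module

/-!
# The torus on a central subgroup in a constrained group
-/

set_option autoImplicit false
set_option linter.unusedSectionVars false
set_option linter.style.haveILetI false

namespace Cfsg.Agent.TransTorus

open Subgroup FFStruct
open scoped Pointwise IsMulCommutative

universe u

variable {G : Type u} [Group G] [Finite G] {p : ℕ} [Fact p.Prime]

/-- The automorphisms of `T` induced by `N(P)`. -/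
def normAut (P T : Subgroup G) : Set (MulAut T) :=
  {ψ | ∃ n ∈ normalizer (P : Set G), ∀ t : T, (ψ t : G) = n * t * n⁻¹}

set_option maxHeartbeats 1600000 in
theorem Setup.hasTorus {P : Sylow p G} {T : Subgroup G} (h : Setup P T) :
    HasTorus p ↥T (normAut (P : Subgroup G) T) := by
  classical
  set K := centralizer (Wo p G : Set G) with hK
  set mk := QuotientGroup.mk' K with hmk
  have hmks : Function.Surjective mk := QuotientGroup.mk'_surjective K
  set π := mk.comp (⊤ : Subgroup G).subtype with hπdef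
  have hπ : Function.Surjective π := fun x => by
    obtain ⟨g, rfl⟩ := hmks x
    exact ⟨⟨g, mem_top g⟩, rfl⟩
  have hPV : (⊤ : Subgroup G) ≤ normalizer (Wo p G : Set G) := by
    rw [normalizer_eq_top]
  have hk : ∀ e : ↥(⊤ : Subgroup G), π e = 1 ↔ (e : G) ∈ centralizer (Wo p G : Set G) :=
    fun e => QuotientGroup.eq_one_iff (e : G)
  letI : DistribMulAction (G ⧸ K) (Additive ↥(Wo p G)) := quotAct hPV hπ fun e => (hk e).1
  haveI : FaithfulSMul (G ⧸ K) (Additive ↥(Wo p G)) := quotAct_faithful hPV hπ hk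
  have hact : ∀ (g : G) (v : Additive ↥(Wo p G)), el (mk g • v) = g * el v * g⁻¹ := fun g v =>
    quotAct_isConj hPV hπ (fun e => (hk e).1) ⟨g, mem_top g⟩ v
  obtain ⟨T', hT', r, E, hE⟩ := h.exists_sys hact
  have hp := nsmul_eq_zero_wo (p := p) (G := G)
  have hp2 := h.hp2
  set S := ⨆ i, E i with hS
  obtain ⟨z, hz, hz2, hzT, hzc, hzf⟩ := exists_inv hE hp hp2
  have hKC : K ≤ centralizer (T : Set G) := h.centralizer_wo_le
  have hsame : ∀ {a b : G}, mk a = mk b → ∀ t ∈ T, a * t * a⁻¹ = b * t * b⁻¹ := by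
    intro a b e t ht
    have h1 := mem_centralizer_iff.1 (hKC (QuotientGroup.eq.1 e)) t ht
    calc a * t * a⁻¹ = a * (t * (a⁻¹ * b)) * b⁻¹ := by group
      _ = _ := by rw [h1]; group
  have hfixP : ∀ {d : G} (hd : d ∈ Wo p G), d ∈ T → vec hd ∈ fx (T' : Subgroup (G ⧸ K)) := by
    intro d hd hdT
    rw [hT']
    rintro _ ⟨a, ha, rfl⟩
    refine el_injective ?_
    rw [hact, el_vec, ← mem_centralizer_iff.1 (h.le_centralizer ha) d hdT, mul_inv_cancel_right]
  -- the element inverting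
  obtain ⟨g0, hg0⟩ := hmks z
  obtain ⟨g, hgP, hg⟩ := exists_lift_normalizer mk P (n := g0) (by
    rw [hg0, ← hT']
    exact centralizer_le_normalizer _ (mem_centralizer_iff.2 fun t ht => hzT t ht))
  rw [hg0] at hg
  have hgT : g ∈ normalizer (T : Set G) := h.normalizer_le hgP
  have hgmem : ∀ {t : G}, t ∈ T → g * t * g⁻¹ ∈ T := fun ht => (mem_normalizer_iff.1 hgT _).1 ht
  have hgg : ∀ t ∈ T, g * (g * t * g⁻¹) * g⁻¹ = t := fun t ht => by
    calc g * (g * t * g⁻¹) * g⁻¹ = (g * g) * t * (g * g)⁻¹ := by group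
      _ = 1 * t * 1⁻¹ := hsame (by rw [map_mul, hg, hz2, map_one]) t ht
      _ = t := by group
  -- elements of `W` fixed by `g` are fixed by the product of the components
  have hfixS : ∀ e ∈ Wo p G, g * e * g⁻¹ = e → ∀ x ∈ S.comap mk, x * e * x⁻¹ = e := by
    intro e he hge x hx
    have h1 : vec he ∈ fx S := hzf _ (el_injective (by rw [← hg, hact, el_vec, hge]))
    have h2 := congrArg el (h1 (mk x) hx)
    rwa [hact, el_vec] at h2
  -- decomposition
  have hdec : ∀ t ∈ T, ∃ d c : G, d ∈ T ∧ c ∈ T ∧ t = d * c ∧ g * c * g⁻¹ = c ∧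
      ∃ hd : d ∈ Wo p G, vec hd ∈ negFix z (T' : Subgroup (G ⧸ K)) := by
    intro t ht
    set δ := g * t * g⁻¹ * t⁻¹ with hδ
    have hδT : δ ∈ T := T.mul_mem (hgmem ht) (T.inv_mem ht)
    obtain ⟨hδB, hδp⟩ := h.comm_mem ht g
    have hgδ : g * δ * g⁻¹ = δ⁻¹ := by
      calc g * δ * g⁻¹ = (g * (g * t * g⁻¹) * g⁻¹) * (g * t * g⁻¹)⁻¹ := by rw [hδ]; group
        _ = t * (g * t * g⁻¹)⁻¹ := by rw [hgg t ht]
        _ = δ⁻¹ := by rw [hδ]; group
    obtain ⟨k, hk2⟩ := (Fact.out : p.Prime).odd_of_ne_two hp2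
    set d := δ ^ k with hd
    have hdT : d ∈ T := pow_mem hδT k
    have hdW : d ∈ Wo p G := pow_mem (show δ ∈ Wo p G from ⟨hδB, hδp⟩) k
    have hgd : g * d * g⁻¹ = d⁻¹ := by rw [hd, ← conj_pow, hgδ, inv_pow]
    refine ⟨d, d⁻¹ * t, hdT, T.mul_mem (T.inv_mem hdT) ht, (mul_inv_cancel_left d t).symm, ?_, hdW,
      el_injective ?_, hfixP hdW hdT⟩
    · have h1 : δ = d⁻¹ * d⁻¹ := by
        refine eq_inv_of_mul_eq_one_left ?_ |>.trans (mul_inv_rev d d)
        rw [hd, ← pow_add, ← pow_succ', show k + k + 1 = p by omega, hδp]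
      calc g * (d⁻¹ * t) * g⁻¹ = (g * d * g⁻¹)⁻¹ * (g * t * g⁻¹) := by group
        _ = d * (δ * t) := by rw [hgd, inv_inv, hδ]; group
        _ = d⁻¹ * t := by rw [h1]; group
    · rw [← hg, hact, el_vec, el_neg, el_vec, hgd]
  -- `g` moves `T`
  have hmove : ∃ t ∈ T, g * t * g⁻¹ ≠ t := by
    by_contra hno
    push Not at hno
    refine h.normalizer_ne_top (top_le_iff.1 ?_)
    obtain ⟨g1', hg1'S, hgen, -⟩ := hE.exists_opposite hp hp2
    obtain ⟨g1, rfl⟩ := hmks g1'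
    have hPa : (T' : Subgroup (G ⧸ K)) ≤ (centralizer (T : Set G)).map mk :=
      hT' ▸ map_mono h.le_centralizer
    have hgenC : S ≤ (centralizer (T : Set G)).map mk := by
      rw [hS, ← hgen]
      refine sup_le (inf_le_left.trans hPa) ?_
      rintro _ ⟨y, ⟨hy, hyS⟩, rfl⟩
      obtain ⟨a, ha, rfl⟩ := hT'.le hy
      refine ⟨g1 * a * g1⁻¹, mem_centralizer_iff.2 fun t ht => ?_, by rw [map_mul, map_mul, map_inv]; rfl⟩
      obtain ⟨he, hep⟩ := h.comm_mem ht g1⁻¹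
      set e := g1⁻¹ * t * g1⁻¹⁻¹ * t⁻¹ with hedef
      have hcomm : mk (g * g1⁻¹) = mk (g1⁻¹ * g) := by
        rw [map_mul, map_mul, map_inv, hg]
        exact (hzc _ (inv_mem hg1'S)).symm
      have hge : g * e * g⁻¹ = e := by
        calc g * e * g⁻¹ = ((g * g1⁻¹) * t * (g * g1⁻¹)⁻¹) * (g * t * g⁻¹)⁻¹ := by rw [hedef]; group
          _ = ((g1⁻¹ * g) * t * (g1⁻¹ * g)⁻¹) * (g * t * g⁻¹)⁻¹ := by rw [hsame hcomm t ht]
          _ = g1⁻¹ * (g * t * g⁻¹) * g1⁻¹⁻¹ * (g * t * g⁻¹)⁻¹ := by group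
          _ = e := by rw [hno t ht]
      have hea := hfixS e ⟨he, hep⟩ hge a hyS
      have hta : a * t * a⁻¹ = t := by
        rw [← mem_centralizer_iff.1 (h.le_centralizer ha) t ht, mul_inv_cancel_right]
      have hw : a * (g1⁻¹ * t * g1) * a⁻¹ = g1⁻¹ * t * g1 := by
        rw [show g1⁻¹ * t * g1 = e * t by rw [hedef]; group,
          show a * (e * t) * a⁻¹ = (a * e * a⁻¹) * (a * t * a⁻¹) by group, hea, hta]
      have h3 : (g1 * a * g1⁻¹) * t * (g1 * a * g1⁻¹)⁻¹ = t := by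
        calc (g1 * a * g1⁻¹) * t * (g1 * a * g1⁻¹)⁻¹ = g1 * (a * (g1⁻¹ * t * g1) * a⁻¹) * g1⁻¹ := by group
          _ = t := by rw [hw]; group
      exact (mul_inv_eq_iff_eq_mul.1 h3).symm
    have htop : (centralizer (T : Set G)).map mk = ⊤ :=
      top_le_iff.1 (hE.top ▸ sup_le hgenC hPa)
    intro x _
    obtain ⟨y, hy, hyx⟩ := htop.ge (mem_top (mk x))
    have h1 : y⁻¹ * x ∈ K := QuotientGroup.eq.1 hyx
    have h2 := mul_mem hy (hKC h1)
    rw [mul_inv_cancel_left] at h2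
    exact centralizer_le_normalizer _ h2
  obtain ⟨t₁, ht₁, hmt₁⟩ := hmove
  obtain ⟨d₁, c₁, -, -, e₁, hc₁, hd₁W, hd₁U⟩ := hdec t₁ ht₁
  have hd₁0 : vec hd₁W ≠ 0 := fun e => hmt₁ (by
    have h1 : d₁ = 1 := congrArg el e
    rw [e₁, h1, one_mul, hc₁])
  obtain ⟨F, iF, χ, hχ⟩ := exists_char hE hp hp2 hz hzc hd₁U hd₁0
  -- the group
  set L := normalizer ((P : Subgroup G) : Set G) ⊓ S.comap mk with hL
  have hLM : L ≤ normalizer (T : Set G) := inf_le_left.trans h.normalizer_le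
  have hLN : ∀ x ∈ L, mk x ∈ normalizer ((T' : Subgroup (G ⧸ K)) : Set (G ⧸ K)) := fun x hx => by
    rw [hT']
    exact le_normalizer_map mk ⟨x, hx.1, rfl⟩
  have hfixc : ∀ x ∈ L, ∀ c ∈ T, g * c * g⁻¹ = c → x * c * x⁻¹ = c := by
    intro x hx c hc hgc
    set e := x * c * x⁻¹ * c⁻¹ with hedef
    obtain ⟨he, hep⟩ := h.comm_mem hc x
    have hcomm : mk (g * x) = mk (x * g) := by
      rw [map_mul, map_mul, hg]
      exact (hzc _ hx.2).symm
    have hge : g * e * g⁻¹ = e := by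
      calc g * e * g⁻¹ = ((g * x) * c * (g * x)⁻¹) * (g * c * g⁻¹)⁻¹ := by rw [hedef]; group
        _ = ((x * g) * c * (x * g)⁻¹) * (g * c * g⁻¹)⁻¹ := by rw [hsame hcomm c hc]
        _ = x * (g * c * g⁻¹) * x⁻¹ * (g * c * g⁻¹)⁻¹ := by group
        _ = e := by rw [hgc]
    have hxe := hfixS e ⟨he, hep⟩ hge x hx.2
    have h1 := conj_pow_eq (n := x) (c := c) (e := e) (by rw [hedef, inv_mul_cancel_right]) hxe
      (Nat.card T.normalizerMonoidHom.range)
    rw [h.pow_fix (hLM hx) hc, eq_comm, mul_eq_right] at h1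
    have h2 := eq_one_of_coprime h.coprime_range h1 hep
    rwa [hedef, mul_inv_eq_one] at h2
  let L' := L.subgroupOf (normalizer (T : Set G))
  set ρ := T.normalizerMonoidHom with hρ
  have hLS : ∀ x : L', mk ((x : normalizer (T : Set G)) : G) ∈
      S ⊓ normalizer ((T' : Subgroup (G ⧸ K)) : Set (G ⧸ K)) :=
    fun x => ⟨x.2.2, hLN _ x.2⟩
  let φ : L' →* ↥(S ⊓ normalizer ((T' : Subgroup (G ⧸ K)) : Set (G ⧸ K))) :=
    ((mk.comp (normalizer (T : Set G)).subtype).comp L'.subtype).codRestrict _ hLS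
  let c : L' →* Fˣ := χ.comp φ
  have hker : ∀ x : L', c x = 1 → ρ (x : normalizer (T : Set G)) = 1 := by
    intro x hx
    refine MulEquiv.ext fun t => Subtype.ext ?_
    obtain ⟨d, c', hd, hc', e, hgc, hdW, hdU⟩ := hdec t t.2
    show ((x : normalizer (T : Set G)) : G) * t * ((x : normalizer (T : Set G)) : G)⁻¹ = t
    set y := ((x : normalizer (T : Set G)) : G) with hy
    have h1 : y * d * y⁻¹ = d := by
      have h2 := congrArg el (hχ (φ x) hx _ hdU)
      rwa [show ((φ x : G ⧸ K)) = mk y from rfl, hact, el_vec] at h2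
    rw [e, show y * (d * c') * y⁻¹ = (y * d * y⁻¹) * (y * c' * y⁻¹) by group, h1,
      hfixc y x.2 c' hc' hgc]
  -- the automorphism group
  refine ⟨L'.map ρ, ?_, ?_, ?_, ?_, ?_⟩
  · rintro _ ⟨n, hn, rfl⟩
    exact ⟨n, hn.1, fun t => rfl⟩
  · intro hbot
    refine hmt₁ ?_
    have hgL : g ∈ L := ⟨hgP, show mk g ∈ S by rw [hg]; exact hz⟩
    have h1 : ρ ⟨g, hgT⟩ = 1 := mem_bot.1 (hbot ▸ ⟨⟨g, hgT⟩, hgL, rfl⟩)
    exact congrArg Subtype.val (DFunLike.congr_fun h1 ⟨t₁, ht₁⟩)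
  · haveI : Finite L' := inferInstance
    haveI : Finite c.range := Finite.of_surjective _ c.rangeRestrict_surjective
    haveI : IsCyclic c.range := inferInstance
    obtain ⟨⟨γ, hγ⟩, hgen⟩ := IsCyclic.exists_generator (α := c.range)
    obtain ⟨x0, rfl⟩ := hγ
    refine ⟨⟨⟨ρ (x0 : normalizer (T : Set G)), mem_map_of_mem ρ x0.2⟩, ?_⟩⟩
    rintro ⟨_, n, hn, rfl⟩
    obtain ⟨k, hk⟩ := mem_zpowers_iff.1 (hgen ⟨c ⟨n, hn⟩, ⟨_, rfl⟩⟩)
    refine ⟨k, Subtype.ext ?_⟩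
    have h1 : c (x0 ^ (-k) * ⟨n, hn⟩) = 1 := by
      have h0 : c x0 ^ k = c ⟨n, hn⟩ := congrArg Subtype.val hk
      rw [map_mul, map_zpow, ← h0, zpow_neg, inv_mul_cancel]
    have h2 := hker _ h1
    rw [Subgroup.coe_mul, SubgroupClass.coe_zpow, map_mul, map_zpow, zpow_neg,
      inv_mul_eq_one] at h2
    exact h2
  · exact Nat.Coprime.coprime_dvd_left (Subgroup.card_dvd_of_le (map_le_range ρ L')) h.coprime_range
  · -- transitivity
    have hU : ∀ a : T, a ∈ Subgroup.closure {y : T | ∃ ψ ∈ L'.map ρ, ∃ t : T, y = ψ t * t⁻¹} →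
        ∃ ha : (a : G) ∈ Wo p G, vec ha ∈ negFix z (T' : Subgroup (G ⧸ K)) := by
      intro a ha
      induction ha using Subgroup.closure_induction with
      | one =>
        exact ⟨one_mem _, (show vec (one_mem (Wo p G)) = 0 from rfl) ▸ zero_mem _⟩
      | mul a b _ _ iha ihb =>
        obtain ⟨ha, ha'⟩ := iha
        obtain ⟨hb, hb'⟩ := ihb
        exact ⟨mul_mem ha hb, add_mem ha' hb'⟩
      | inv a _ iha =>
        obtain ⟨ha, ha'⟩ := iha
        exact ⟨inv_mem ha, neg_mem ha'⟩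
      | mem y hy =>
        obtain ⟨_, ⟨n, hn, rfl⟩, t, rfl⟩ := hy
        obtain ⟨d, c', hd, hc', e, hgc, hdW, hdU⟩ := hdec t t.2
        have hx : (n : G) ∈ L := hn
        have hval : ((ρ n t * t⁻¹ : T) : G) = (n * d * (n : G)⁻¹) * d⁻¹ := by
          show (n : G) * t * (n : G)⁻¹ * (t : G)⁻¹ = _
          rw [e, show (n : G) * (d * c') * (n : G)⁻¹ = (n * d * (n : G)⁻¹) * (n * c' * (n : G)⁻¹) by group,
            hfixc _ hx c' hc' hgc]
          group
        have h1 : (n : G) * d * (n : G)⁻¹ ∈ Wo p G := wo_normal.conj_mem d hdW n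
        have h2 : vec h1 = mk (n : G) • vec hdW := el_injective (by rw [hact, el_vec, el_vec])
        have h3 : vec h1 ∈ negFix z (T' : Subgroup (G ⧸ K)) :=
          h2 ▸ smul_mem_negFix (hzc _ hx.2) (hLN _ hx) hdU
        have h4 : ((ρ n t * t⁻¹ : T) : G) ∈ Wo p G := hval ▸ mul_mem h1 (inv_mem hdW)
        refine ⟨h4, ?_⟩
        rw [show vec h4 = vec h1 + -vec hdW from el_injective hval]
        exact add_mem h3 (neg_mem hdU)
    intro a b ha hb ha1 hb1
    obtain ⟨haW, haU⟩ := hU a ha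
    obtain ⟨hbW, hbU⟩ := hU b hb
    obtain ⟨x, hx, hxN, hxab⟩ := exists_trans hE hp hp2 hz hzc hzf haU
      (fun e => ha1 (Subtype.ext (congrArg el e))) hbU (fun e => hb1 (Subtype.ext (congrArg el e)))
    obtain ⟨n0, rfl⟩ := hmks x
    obtain ⟨n, hnP, hn⟩ := exists_lift_normalizer mk P (n := n0) (by rw [← hT']; exact hxN)
    have hnL : n ∈ L := ⟨hnP, show mk n ∈ S by rw [hn]; exact hx⟩
    refine ⟨ρ ⟨n, hLM hnL⟩, mem_map_of_mem ρ (show (⟨n, hLM hnL⟩ : normalizer (T : Set G)) ∈ L' from hnL),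
      Subtype.ext ?_⟩
    have h1 := congrArg el hxab
    rw [← hn, hact, el_vec, el_vec] at h1
    exact h1

end Cfsg.Agent.TransTorus
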