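import Cfsg.Agent.TransTorus.Group

/-!
# Reduction to a minimal overgroup of a Sylow subgroup
-/

set_option autoImplicit false
set_option linter.unusedSectionVars false
set_option linter.style.haveILetI false

namespace Cfsg.Agent.TransTorus

open Subgroup FFStruct
open scoped Pointwise

universe u

variable {G : Type u} [Group G] [Finite G] {p : ℕ} [Fact p.Prime]

/-- A central subgroup normalized by `N(J(P))` but not normal has a torus in `N(P)`. -/
theorem hasTorus_of_constrained (hp2 : p ≠ 2)
    (hc : centralizer ((Cfsg.pCore p G : Subgroup G) : Set G) ≤ Cfsg.pCore p G) (P : Sylow p G)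
    {T : Subgroup G} (hT : T ≤ (P : Subgroup G) ⊓ centralizer ((P : Subgroup G) : Set G))
    (hN : normalizer (Cfsg.thompsonSubgroupAOf (P : Subgroup G) : Set G) ≤ normalizer (T : Set G))
    (hnn : ¬ T.Normal) : HasTorus p ↥T (normAut (P : Subgroup G) T) := by
  classical
  obtain ⟨H, ⟨hPH, hHT⟩, hHmin⟩ := wellFounded_lt.has_min
    {H : Subgroup G | (P : Subgroup G) ≤ H ∧ ¬ H ≤ normalizer (T : Set G)}
    ⟨⊤, le_top, fun h => hnn (normalizer_eq_top_iff.1 (top_le_iff.1 h))⟩
  have hTH : T ≤ H := hT.trans (inf_le_left.trans hPH)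
  have hON : (Cfsg.pCore p G).subgroupOf H ≤ Cfsg.pCore p H := by
    refine Core.le_pCore (hN := ?_) (Core.pCore_isPGroup.comap_subtype (K := H))
    exact (inferInstance : (Cfsg.pCore p G).Normal).subgroupOf H
  have hcH : centralizer ((Cfsg.pCore p H : Subgroup H) : Set H) ≤ Cfsg.pCore p H := by
    intro x hx
    refine hON (mem_subgroupOf.mpr (hc (mem_centralizer_iff.mpr fun o ho => ?_)))
    exact congrArg Subtype.val (mem_centralizer_iff.mp hx
      ⟨o, hPH (Core.pCore_le_sylow P ho)⟩ (hON ho))
  have hJ : (Cfsg.thompsonSubgroupAOf ((P.subtype hPH : Sylow p H) : Subgroup H)).map H.subtype =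
      Cfsg.thompsonSubgroupAOf (P : Subgroup G) := by
    rw [← FusSys.wsub_jW, ← FusSys.wsub_jW]
    have e := subgroupOfEquivOfLe hPH
    rw [FusSys.wsub, FusSys.wsub, Sylow.coe_subtype,
      ← (FusSys.posFunctor_jW (p := p)).map_eq _ _ (P.2.comap_subtype (K := H))
        (subgroupOfEquivOfLe hPH), map_map, map_map]
    rfl
  have hnorm : ∀ {n : H}, (n : G) ∈ normalizer (T : Set G) →
      n ∈ normalizer ((T.subgroupOf H : Subgroup H) : Set H) := fun {n} hn =>
    mem_normalizer_iff.2 fun y => mem_normalizer_iff.1 hn (y : G)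
  have hset : Setup (P.subtype hPH) (T.subgroupOf H) :=
    { hp2 := hp2
      hc := hcH
      hT := by
        intro x hx
        rw [Sylow.coe_subtype]
        exact ⟨(hT hx).1, mem_centralizer_iff.2 fun y hy =>
          Subtype.ext (mem_centralizer_iff.1 (hT hx).2 _ hy)⟩
      hN := fun x hx => hnorm (hN (hJ ▸ le_normalizer_map H.subtype ⟨x, hx, rfl⟩))
      hmin := by
        intro X hPX hX x hx
        refine hnorm (?_ : (x : G) ∈ normalizer (T : Set G))
        have hXH : X.map H.subtype < H := by
          refine lt_of_le_of_ne (map_subtype_le X) fun e => hX ?_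
          rw [← comap_map_eq_self_of_injective H.subtype_injective X, e]
          exact subgroupOf_self H
        have hle : X.map H.subtype ≤ normalizer (T : Set G) := by
          by_contra hno
          have hmem : ∀ a (ha : a ∈ (P : Subgroup G)), (⟨a, hPH ha⟩ : H) ∈
              ((P.subtype hPH : Sylow p H) : Subgroup H) := fun a ha => by
            rw [Sylow.coe_subtype]; exact ha
          exact hHmin (X.map H.subtype)
            ⟨fun a ha => mem_map.2 ⟨⟨a, hPH ha⟩, hPX (hmem a ha), rfl⟩, hno⟩ hXH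
        exact hle ⟨x, hx, rfl⟩
      hnn := fun hn => hHT fun x hx => FusSys.mem_normalizer_of_maps fun t ht =>
        hn.conj_mem ⟨t, hTH ht⟩ ht ⟨x, hx⟩ }
  refine hset.hasTorus.congr (subgroupOfEquivOfLe hTH) ?_
  rintro ψ ⟨n, hn, hψ⟩
  refine ⟨n, FusSys.mem_normalizer_of_maps fun a ha => ?_, fun t => ?_⟩
  · rw [Sylow.coe_subtype] at hn
    exact (mem_normalizer_iff.1 hn ⟨a, hPH ha⟩).1 ha
  · exact congrArg Subtype.val (hψ ((subgroupOfEquivOfLe hTH).symm t))

end Cfsg.Agent.TransTorus
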