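import Cfsg.Agent.TransTorus.Central

/-!
# The components on the elementary part of the centre of `O_p(G)`
-/

set_option autoImplicit false
set_option linter.unusedSectionVars false
set_option linter.style.haveILetI false

namespace Cfsg.Agent.TransTorus

open Subgroup FFStruct
open scoped Pointwise IsMulCommutative

universe u

variable {G : Type u} [Group G] [Finite G] {p : ℕ} [Fact p.Prime]

/-- The elements of order dividing `p` in the centre of `O_p(G)`. -/
def Wo (p : ℕ) (G : Type u) [Group G] : Subgroup G where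
  carrier := {v | v ∈ Cfsg.pCore p G ⊓ centralizer ((Cfsg.pCore p G : Subgroup G) : Set G) ∧ v ^ p = 1}
  one_mem' := ⟨one_mem _, one_pow _⟩
  mul_mem' := fun {a b} ha hb => ⟨Subgroup.mul_mem _ ha.1 hb.1, by
    rw [(show Commute a b from mem_centralizer_iff.1 hb.1.2 a ha.1.1).mul_pow, ha.2, hb.2, one_mul]⟩
  inv_mem' := fun {a} ha => ⟨Subgroup.inv_mem _ ha.1, by rw [inv_pow, ha.2, inv_one]⟩

instance wo_normal : (Wo p G).Normal :=
  ⟨fun v hv g => ⟨(inferInstance : (Cfsg.pCore p G ⊓
      centralizer ((Cfsg.pCore p G : Subgroup G) : Set G)).Normal).conj_mem v hv.1 g,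
    by rw [conj_pow, hv.2, mul_one, mul_inv_cancel]⟩⟩

instance wo_comm : IsMulCommutative (Wo p G) :=
  ⟨⟨fun a b => Subtype.ext (mem_centralizer_iff.1 b.2.1.2 _ a.2.1.1)⟩⟩

theorem pCore_le_centralizer_wo : Cfsg.pCore p G ≤ centralizer (Wo p G : Set G) :=
  fun o ho => mem_centralizer_iff.2 fun v hv => (mem_centralizer_iff.1 hv.1.2 o ho).symm

/-- The vectors of the module. -/
def vec {v : G} (hv : v ∈ Wo p G) : Additive ↥(Wo p G) := Additive.ofMul ⟨v, hv⟩

/-- The element of the group attached to a vector. -/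
def el (v : Additive ↥(Wo p G)) : G := ((Additive.toMul v : ↥(Wo p G)) : G)

theorem el_mem (v : Additive ↥(Wo p G)) : el v ∈ Wo p G := (Additive.toMul v : ↥(Wo p G)).2

theorem el_vec {v : G} (hv : v ∈ Wo p G) : el (vec hv) = v := rfl

theorem el_injective : Function.Injective (el : Additive ↥(Wo p G) → G) :=
  fun _ _ h => Additive.toMul.injective (Subtype.ext h)

theorem el_zero : el (0 : Additive ↥(Wo p G)) = 1 := rfl

theorem el_neg (v : Additive ↥(Wo p G)) : el (-v) = (el v)⁻¹ := rfl

theorem el_add (v w : Additive ↥(Wo p G)) : el (v + w) = el v * el w := rfl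

theorem nsmul_eq_zero_wo (v : Additive ↥(Wo p G)) : p • v = 0 :=
  Additive.toMul.injective (Subtype.ext (Additive.toMul v : ↥(Wo p G)).2.2)

namespace Setup

variable {P : Sylow p G} {T : Subgroup G} (h : Setup P T)

include h

theorem centralizer_wo_le : centralizer (Wo p G : Set G) ≤ centralizer (T : Set G) :=
  h.le_centralizer_of_omega fun _ hx v hv hvp => (mem_centralizer_iff.1 hx v ⟨hv, hvp⟩).symm

theorem inf_centralizer_wo : (P : Subgroup G) ⊓ centralizer (Wo p G : Set G) ≤ Cfsg.pCore p G := by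
  have htop := h.eq_top_of_sup (le_normalizer_inf P (centralizer (Wo p G : Set G)))
    (h.centralizer_wo_le.trans (centralizer_le_normalizer _)) (frattini P _)
  exact Core.le_pCore (hN := normalizer_eq_top_iff.1 htop) (P.2.to_le inf_le_left)

theorem exists_offender : ∃ A : Subgroup G, Fusion.AbMax 0 (P : Subgroup G) A ∧
    ¬ A ≤ Cfsg.pCore p G ∧ Wo p G ≤ normalizer (A : Set G) := by
  set O := Cfsg.pCore p G with hO
  have hOP : O ≤ (P : Subgroup G) := Core.pCore_le_sylow P
  obtain ⟨A, hA, hAO⟩ : ∃ A, Fusion.AbMax 0 (P : Subgroup G) A ∧ ¬ A ≤ O := by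
    by_contra hno
    push Not at hno
    have h1 : Cfsg.thompsonSubgroupAOf (P : Subgroup G) = Cfsg.thompsonSubgroupAOf O := by
      rw [Fusion.thompsonSubgroupAOf_eq, Fusion.thompsonSubgroupAOf_eq]
      obtain ⟨A₁, hA₁⟩ := Fusion.exists_abMax 0 (P : Subgroup G)
      congr 1
      ext A
      constructor
      · intro (hA : Fusion.AbMax 0 (P : Subgroup G) A)
        exact ⟨⟨hno A hA, hA.comm, hA.exp⟩,
          fun C hC => hA.max C ⟨hC.le.trans hOP, hC.comm, hC.exp⟩⟩
      · intro (hA : Fusion.AbMax 0 O A)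
        exact ⟨⟨hA.le.trans hOP, hA.comm, hA.exp⟩, fun C hC =>
          (hA₁.max C hC).trans (hA.max A₁ ⟨hno A₁ hA₁, hA₁.comm, hA₁.exp⟩)⟩
    refine h.normalizer_ne_top (eq_top_iff.2 fun g _ => h.hN ?_)
    rw [h1]
    exact FusSys.mem_normalizer_thompsonSubgroupAOf ((normalizer_eq_top (H := O)).ge (mem_top g))
  haveI : ((Wo p G).subgroupOf (P : Subgroup G)).Normal := Normal.subgroupOf inferInstance _
  have hX : IsPGroup p ↥(P : Subgroup G) := P.2
  obtain ⟨A', hA', hA'O, hA'n⟩ := exists_abMax_normalized hX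
    (B := (Wo p G).subgroupOf (P : Subgroup G)) (O := O.subgroupOf (P : Subgroup G))
    (fun x hx => hx.1.1)
    (fun x hx => mem_centralizer_iff.2 fun v hv => Subtype.ext
      (mem_centralizer_iff.1 (pCore_le_centralizer_wo hx) _ hv))
    ⟨A.subgroupOf (P : Subgroup G), (Fusion.abMax_map_iff (P : Subgroup G).subtype_injective).1 (by
        rwa [← MonoidHom.range_eq_map, range_subtype, map_subgroupOf_eq_of_le hA.le]),
      fun hle => hAO fun x hx => hle (show (⟨x, hA.le hx⟩ : (P : Subgroup G)) ∈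
        A.subgroupOf (P : Subgroup G) from hx)⟩
  refine ⟨A'.map (P : Subgroup G).subtype, ?_, fun hle => hA'O fun x hx => hle ⟨x, hx, rfl⟩, ?_⟩
  · have := (Fusion.abMax_map_iff (P : Subgroup G).subtype_injective).2 hA'
    rwa [← MonoidHom.range_eq_map, range_subtype] at this
  · intro v hv
    exact le_normalizer_map (P : Subgroup G).subtype
      ⟨⟨v, hOP hv.1.1⟩, hA'n (show (⟨v, hOP hv.1.1⟩ : (P : Subgroup G)) ∈ _ from hv), rfl⟩

theorem exists_sys [DistribMulAction (G ⧸ centralizer (Wo p G : Set G)) (Additive ↥(Wo p G))]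
    [FaithfulSMul (G ⧸ centralizer (Wo p G : Set G)) (Additive ↥(Wo p G))]
    (hact : ∀ (g : G) (v : Additive ↥(Wo p G)),
      el (QuotientGroup.mk' (centralizer (Wo p G : Set G)) g • v) = g * el v * g⁻¹) :
    ∃ T' : Sylow p (G ⧸ centralizer (Wo p G : Set G)),
      (T' : Subgroup (G ⧸ centralizer (Wo p G : Set G))) =
        (P : Subgroup G).map (QuotientGroup.mk' (centralizer (Wo p G : Set G))) ∧
      HasSys (Additive ↥(Wo p G)) p (T' : Subgroup (G ⧸ centralizer (Wo p G : Set G))) := by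
  set K := centralizer (Wo p G : Set G) with hK
  set mk := QuotientGroup.mk' K with hmk
  have hmks : Function.Surjective mk := QuotientGroup.mk'_surjective K
  set M := normalizer (T : Set G) with hM
  have hPM : (P : Subgroup G) ≤ M := h.le_centralizer.trans (centralizer_le_normalizer _)
  have hKM : K ≤ M := h.centralizer_wo_le.trans (centralizer_le_normalizer _)
  have hMC : (M.map mk).comap mk = M := by
    rw [comap_map_eq, QuotientGroup.ker_mk', sup_eq_left.2 hKM]
  let T' : Sylow p (G ⧸ K) := P.mapSurjective hmks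
  have hT' : (T' : Subgroup (G ⧸ K)) = (P : Subgroup G).map mk := Sylow.coe_mapSurjective ..
  refine ⟨T', hT', ?_⟩
  have hOp : Cfsg.pCore p (G ⧸ K) = ⊥ := by
    set D := (Cfsg.pCore p (G ⧸ K)).comap mk with hD
    haveI : D.Normal := (Core.pCore_normal (p := p) (G := G ⧸ K)).comap mk
    have hDK : D ≤ ((P : Subgroup G) ⊓ D) ⊔ K := by
      intro d hd
      obtain ⟨t, ht, e⟩ := hT'.le ((Core.pCore_le_sylow (p := p) T') hd)
      have htd : t⁻¹ * d ∈ K := QuotientGroup.eq.1 e
      have htD : t ∈ D := by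
        rw [hD, mem_comap, show mk t = mk d from e]; exact hd
      rw [show d = t * (t⁻¹ * d) by group]
      exact mul_mem_sup ⟨ht, htD⟩ htd
    have htop := h.eq_top_of_sup (le_normalizer_inf P D)
      (hDK.trans (sup_le (inf_le_left.trans hPM) hKM)) (frattini P D)
    have hle : (P : Subgroup G) ⊓ D ≤ K := (Core.le_pCore (hN := normalizer_eq_top_iff.1 htop)
      (P.2.to_le inf_le_left)).trans pCore_le_centralizer_wo
    rw [eq_bot_iff, ← map_comap_eq_self_of_surjective hmks (Cfsg.pCore p (G ⧸ K)), map_le_iff_le_comap,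
      MonoidHom.comap_bot, QuotientGroup.ker_mk']
    exact hDK.trans (sup_le hle le_rfl)
  have hn : ¬ (T' : Subgroup (G ⧸ K)).Normal := by
    intro hnor
    have h1 := (Core.le_pCore (hN := hnor) T'.isPGroup').trans hOp.le
    rw [hT', map_le_iff_le_comap, MonoidHom.comap_bot, QuotientGroup.ker_mk'] at h1
    have h2 : (P : Subgroup G) = Cfsg.pCore p G := le_antisymm
      ((le_inf le_rfl h1).trans h.inf_centralizer_wo) (Core.pCore_le_sylow P)
    refine h.normalizer_ne_top (top_le_iff.1 (le_trans ?_ h.normalizer_le))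
    rw [h2]
    exact (normalizer_eq_top (H := Cfsg.pCore p G)).ge
  obtain ⟨hpmin, hMc⟩ := isPMinimal_of T' (M := M.map mk)
    (fun e => h.normalizer_ne_top (by rw [← hM, ← hMC, e, comap_top])) (hT' ▸ map_mono hPM)
    (fun X hX hXt => by
      rw [← map_comap_eq_self_of_surjective hmks X]
      refine map_mono (h.hmin _ ?_ fun e => hXt ?_)
      · exact map_le_iff_le_comap.1 (hT' ▸ hX)
      · rw [← map_comap_eq_self_of_surjective hmks X, e, map_top_of_surjective mk hmks]) hn
  have hA : Amb (G ⧸ K) (Additive ↥(Wo p G)) p := by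
    refine Amb.of_one nsmul_eq_zero_wo hpmin hOp T' _ hMc (hT' ▸ map_mono hPM) fun x hx => ?_
    obtain ⟨g, rfl⟩ := hmks x
    refine ⟨g, h.centralizer_omega_le (mem_centralizer_iff.2 fun v hv => ?_), rfl⟩
    have hvC : v ∈ centralizer ((Cfsg.pCore p G : Subgroup G) : Set G) :=
      centralizer_le (Core.pCore_le_sylow P) hv.1.2
    have hvW : v ∈ Wo p G := ⟨⟨h.hc hvC, hvC⟩, hv.2⟩
    have hfix : vec hvW ∈ fx (T' : Subgroup (G ⧸ K)) := by
      rw [hT']
      rintro _ ⟨t, ht, rfl⟩
      refine el_injective ?_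
      rw [hact, el_vec, mem_centralizer_iff.1 hv.1.2 t ht, mul_inv_cancel_right]
    have h1 := congrArg el (hx _ hfix)
    rw [hact, el_vec, mul_inv_eq_iff_eq_mul] at h1
    exact h1.symm
  obtain ⟨A, hAm, hAO, hWA⟩ := h.exists_offender
  have hAc : ∀ {a b : G}, a ∈ A → b ∈ A → Commute a b :=
    fun ha hb => Fusion.commute_of_isMulCommutative hAm.comm ha hb
  have hea : Cfsg.IsElementaryAbelian p (A.map mk) := by
    refine Thompson.ea_iff.2 ⟨?_, ?_⟩
    · rintro _ ⟨a, ha, rfl⟩
      rw [mem_centralizer_iff]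
      rintro _ ⟨b, hb, rfl⟩
      rw [← map_mul, ← map_mul, (hAc hb ha).eq]
    · rintro _ ⟨a, ha, rfl⟩
      rw [← map_pow]
      refine (QuotientGroup.eq_one_iff _).2 (mem_centralizer_iff.2 fun v hv => ?_)
      set d := a * v * a⁻¹ * v⁻¹ with hd
      have hdW : d ∈ Wo p G := mul_mem (wo_normal.conj_mem v hv a) (inv_mem hv)
      have hdA : d ∈ A := by
        rw [hd, show a * v * a⁻¹ * v⁻¹ = a * (v * a⁻¹ * v⁻¹) by group]
        exact mul_mem ha ((mem_normalizer_iff.1 (hWA hv) a⁻¹).1 (inv_mem ha))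
      have h1 := conj_pow_eq (n := a) (c := v) (e := d) (by rw [hd, inv_mul_cancel_right])
        (by rw [(hAc ha hdA).eq, mul_inv_cancel_right]) p
      rw [hdW.2, one_mul, mul_inv_eq_iff_eq_mul] at h1
      exact h1.symm
  have hne : A.map mk ≠ ⊥ := fun e => hAO fun x hx => h.inf_centralizer_wo ⟨hAm.le hx, by
    have h1 := map_le_iff_le_comap.1 e.le
    rw [MonoidHom.comap_bot, QuotientGroup.ker_mk'] at h1
    exact h1 hx⟩
  refine hA.hasSys_of_offender T' hea hne ?_
  -- the offender count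
  set A0 := A ⊓ K with hA0
  have hWP : Wo p G ≤ (P : Subgroup G) := fun v hv => Core.pCore_le_sylow P hv.1.1
  have hWc : Wo p G ≤ centralizer (A0 : Set G) := le_centralizer_iff.1 inf_le_right
  have e := Thompson.card_sup_mul_card_inf_of_comm hWc
  have hU : Nat.card (Wo p G ⊔ A0 : Subgroup G) ≤ Nat.card A := by
    refine hAm.max _ ⟨sup_le hWP (inf_le_left.trans hAm.le), Fusion.isMulCommutative_of_forall ?_,
      fun a _ => pow_zero a⟩
    have h2 : Wo p G ⊔ A0 ≤ centralizer ((Wo p G ⊔ A0 : Subgroup G) : Set G) := by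
      rw [Thompson.centralizer_sup]
      refine sup_le (le_inf ?_ hWc) (le_inf inf_le_right ?_)
      · exact fun v hv => mem_centralizer_iff.2 fun w hw =>
          congrArg Subtype.val ((wo_comm (p := p) (G := G)).is_comm.comm ⟨w, hw⟩ ⟨v, hv⟩)
      · exact fun a ha => mem_centralizer_iff.2 fun b hb => (hAc hb.1 ha.1).eq
    exact fun a ha b hb => mem_centralizer_iff.1 (h2 hb) a ha
  have hinf : Nat.card (Wo p G ⊓ A0 : Subgroup G) ≤
      Nat.card (fx (V := Additive ↥(Wo p G)) (A.map mk)) := by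
    refine Nat.card_le_card_of_injective (fun x => ⟨vec x.2.1, ?_⟩) ?_
    · rintro _ ⟨a, ha, rfl⟩
      refine el_injective ?_
      rw [hact, el_vec, (hAc ha x.2.2.1).eq, mul_inv_cancel_right]
    · intro x y hxy
      exact Subtype.ext (congrArg (fun w : fx (V := Additive ↥(Wo p G)) (A.map mk) => el w.1) hxy)
  have h2 : Nat.card A = Nat.card (A.map mk) * Nat.card A0 := by
    have h3 := card_range_ker (mk.comp A.subtype)
    rw [MonoidHom.range_comp, range_subtype] at h3
    rw [h3]
    congr 1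
    refine Nat.card_congr
      { toFun := fun x => ⟨((x : A) : G), (x : A).2, (QuotientGroup.eq_one_iff _).1 x.2⟩
        invFun := fun x => ⟨⟨x, x.2.1⟩, (QuotientGroup.eq_one_iff (x : G)).2 x.2.2⟩
        left_inv := fun _ => rfl
        right_inv := fun _ => rfl }
  rw [h2] at hU
  refine Nat.le_of_mul_le_mul_right (c := Nat.card A0) ?_ Nat.card_pos
  calc Nat.card (Additive ↥(Wo p G)) * Nat.card A0 = Nat.card (Wo p G) * Nat.card A0 := rfl
    _ = _ := e.symm
    _ ≤ (Nat.card (A.map mk) * Nat.card A0) * Nat.card (fx (V := Additive ↥(Wo p G)) (A.map mk)) :=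
      Nat.mul_le_mul hU hinf
    _ = _ := by ring

end Setup

end Cfsg.Agent.TransTorus
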